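import Groth.Agent.L10.SecPres.Ops
import Groth.Agent.L15.FlatCrit.Stalks
import Mathlib.LinearAlgebra.Basis.Defs
import Mathlib.LinearAlgebra.LinearIndependent.Basic
import Mathlib.LinearAlgebra.LinearIndependent.Defs

/-! Generators and relations near a point of a ringed site. -/

set_option autoImplicit false
set_option backward.isDefEq.respectTransparency false
set_option backward.isDefEq.respectTransparency.types false

universe u

open CategoryTheory CategoryTheory.Limits Opposite

noncomputable section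

namespace Groth.L10.SecPres.AtPoint

open Groth.L15.FlatCrit Groth.L15.PullFlat Groth.L15.LocPres

variable {C : Type u} [SmallCategory C] {J : GrothendieckTopology C} {O : Sheaf J CommRingCat.{u}}
variable (p : GrothendieckTopology.Point.{u} J) (F : ModSite.Mod O)

/-- Germs, as a semilinear map. -/
def gm (W : C) (w : p.fiber.obj W) :
    ModSite.sect F W →ₛₗ[germRingHom p O W w] (ModSite.stalkMod p F : Type u) where
  toFun := germHom p F W w
  map_add' := map_add _
  map_smul' := germ_smul' p F W w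

/-- Germs of coefficient vectors. -/
def gV (O : Sheaf J CommRingCat.{u}) {I : Type u} (W : C) (w : p.fiber.obj W) : (I →₀ O.obj.obj (op W)) →+ (I →₀ ModSite.stalkRing p O) :=
  Finsupp.mapRange.addMonoidHom (germRingHom p O W w).toAddMonoidHom

theorem gV_apply {I : Type u} (W : C) (w : p.fiber.obj W) (c : I →₀ O.obj.obj (op W)) (i : I) :
    gV p O W w c i = germRingHom p O W w (c i) := rfl

theorem gV_single {I : Type u} (W : C) (w : p.fiber.obj W) (i : I) (r : O.obj.obj (op W)) :
    gV p O W w (Finsupp.single i r) = Finsupp.single i (germRingHom p O W w r) :=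
  Finsupp.mapRange_single (hf := map_zero _)

theorem gV_rR {I : Type u} {W W' : C} (g : W' ⟶ W) (w' : p.fiber.obj W') (c : I →₀ O.obj.obj (op W)) :
    gV p O W' w' (rR O g c) = gV p O W (p.fiber.map g w') c :=
  Finsupp.ext fun i => by rw [gV_apply, rR_apply, gV_apply, germ_rr]

theorem gm_rs {W W' : C} (g : W' ⟶ W) (w' : p.fiber.obj W') (x : ModSite.sect F W) :
    gm p F W' w' (rs F g x) = gm p F W (p.fiber.map g w') x :=
  germ_rs p F g w' x

theorem gm_lcs {I : Type u} {U W : C} (g : U ⟶ W) (w : p.fiber.obj U) (s : I → ModSite.sect F W)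
    (c : I →₀ O.obj.obj (op U)) :
    gm p F U w (lcs F g s c) = Finsupp.linearCombination (ModSite.stalkRing p O)
      (fun i => gm p F W (p.fiber.map g w) (s i)) (gV p O U w c) := by
  induction c using Finsupp.induction_linear with
  | zero => simp only [map_zero]
  | add c d hc hd => simp only [map_add, hc, hd]
  | single i r =>
    rw [gV_single, Finsupp.linearCombination_single, Finsupp.linearCombination_single, map_smulₛₗ, gm_rs]

theorem stalkMap_gm {G : ModSite.Mod O} (φ : G ⟶ F) (W : C) (w : p.fiber.obj W) (x : ModSite.sect G W) :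
    (ModSite.stalkMap p φ).hom (gm p G W w x) = gm p F W w (φ.val.app (op W) x) :=
  p.toPresheafFiber_naturality_apply ((SheafOfModules.toSheaf (ModSite.ringSh O)).map φ).hom W w x

theorem exists_near {P : C → Prop} (h : Locally J P) (U : C) (u₀ : p.fiber.obj U) :
    ∃ (W : C) (g : W ⟶ U) (w : p.fiber.obj W), p.fiber.map g w = u₀ ∧ P W := by
  obtain ⟨S, hS, hd⟩ := h U
  obtain ⟨W, g, hg, w, hw⟩ := p.jointly_surjective S hS u₀
  exact ⟨W, g, w, hw, hd g hg⟩

theorem map_eq_of_eq {W U : C} {g g' : W ⟶ U} (h : g = g') (w : p.fiber.obj W) :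
    p.fiber.map g w = p.fiber.map g' w := by rw [h]

theorem map_comp_eq {Z W U : C} (h : Z ⟶ W) (g : W ⟶ U) (z : p.fiber.obj Z) :
    p.fiber.map (h ≫ g) z = p.fiber.map g (p.fiber.map h z) := by
  rw [Functor.map_comp]
  rfl

theorem rR_linearCombination {I K : Type u} {U V : C} (q : V ⟶ U) (A : I → (K →₀ O.obj.obj (op U)))
    (c : I →₀ O.obj.obj (op U)) :
    rR O q (Finsupp.linearCombination (O.obj.obj (op U)) A c) =
      Finsupp.linearCombination (O.obj.obj (op V)) (fun i => rR O q (A i)) (rR O q c) := by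
  induction c using Finsupp.induction_linear with
  | zero => simp only [map_zero]
  | add c d hc hd => simp only [map_add, hc, hd]
  | single i r =>
    rw [rR_single, Finsupp.linearCombination_single, Finsupp.linearCombination_single, map_smulₛₗ]

theorem exists_vec_lift {I : Type u} (v : I →₀ ModSite.stalkRing p O) (U : C) (u₀ : p.fiber.obj U) :
    ∃ (W : C) (g : W ⟶ U) (w : p.fiber.obj W) (c : I →₀ O.obj.obj (op W)),
      p.fiber.map g w = u₀ ∧ gV p O W w c = v := by
  classical
  let e := v.support.equivFin.symm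
  obtain ⟨W, g, w, f, hw, hf⟩ := exists_func_lift p (fun k => v (e k).1) U u₀
  refine ⟨W, g, w, ∑ k, Finsupp.single (e k).1 (f k), hw, ?_⟩
  rw [map_sum]
  refine Eq.trans ?_ (Finsupp.sum_single v)
  rw [Finsupp.sum, ← Finset.sum_coe_sort v.support, ← e.sum_comp (fun i => Finsupp.single i.1 (v i.1))]
  exact Finset.sum_congr rfl fun k _ => by rw [gV_single, hf]

/-- Germs of local generators generate the stalk. -/
theorem span_gm_eq_top {W : C} {I : Type u} {s : I → ModSite.sect F W} (h : IsGen F W s) (w : p.fiber.obj W) :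
    Submodule.span (ModSite.stalkRing p O) (Set.range fun i => gm p F W w (s i)) = ⊤ := by
  refine eq_top_iff.2 fun m _ => ?_
  obtain ⟨V, g, v, x, hv, hx⟩ := exists_sect_lift p F (fun _ : Fin 1 => m) W w
  obtain ⟨S, hS, hd⟩ := h g (x 0)
  obtain ⟨Z, k, hk, z, hz⟩ := p.jointly_surjective S hS v
  obtain ⟨c, hc⟩ := (mem_span_iff_lcs (k ≫ g) s _).1 (hd k hk)
  rw [← Finsupp.range_linearCombination]
  refine ⟨gV p O Z z c, ?_⟩
  have hw : p.fiber.map (k ≫ g) z = w := by rw [map_comp_eq, hz, hv]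
  have e : gm p F Z z (rs F k (x 0)) = m := by rw [gm_rs, hz]; exact hx 0
  rw [← e, ← hc, gm_lcs, hw]

variable {F}

/-- Finitely many equations between germs hold near the point. -/
theorem exists_eq_near {ι : Type*} [Finite ι] (W : C) (w : p.fiber.obj W) (a b : ι → ModSite.sect F W)
    (h : ∀ i, gm p F W w (a i) = gm p F W w (b i)) :
    ∃ (Y : C) (g : Y ⟶ W) (y : p.fiber.obj Y), p.fiber.map g y = w ∧ ∀ i, rs F g (a i) = rs F g (b i) := by
  obtain ⟨n, ⟨e⟩⟩ := Finite.exists_equiv_fin ι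
  obtain ⟨Y, g, y, hy, hg⟩ := exists_sect_eq p F W w (fun k => a (e.symm k)) (fun k => b (e.symm k)) fun k => h _
  exact ⟨Y, g, y, hy, fun i => by simpa using hg (e i)⟩

/-- Finitely many elements of a stalk are germs near the point. -/
theorem exists_lift_near {ι : Type*} [Finite ι] (m : ι → (ModSite.stalkMod p F : Type u)) (U : C)
    (u₀ : p.fiber.obj U) :
    ∃ (W : C) (g : W ⟶ U) (w : p.fiber.obj W) (s : ι → ModSite.sect F W),
      p.fiber.map g w = u₀ ∧ ∀ i, gm p F W w (s i) = m i := by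
  obtain ⟨n, ⟨e⟩⟩ := Finite.exists_equiv_fin ι
  obtain ⟨W, g, w, s, hw, hs⟩ := exists_sect_lift p F (fun k => m (e.symm k)) U u₀
  exact ⟨W, g, w, fun i => s (e i), hw, fun i => (hs (e i)).trans (congrArg m (e.symm_apply_apply i))⟩

/-- Generators whose germs come from the stalk of the source come from sections near the point. -/
theorem exists_image_near {G : ModSite.Mod O} (φ : G ⟶ F) {W : C} {ι : Type*} [Finite ι]
    (s : ι → ModSite.sect F W) (w : p.fiber.obj W)
    (h : ∀ i, ∃ m, (ModSite.stalkMap p φ).hom m = gm p F W w (s i)) :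
    ∃ (V : C) (g : V ⟶ W) (v : p.fiber.obj V) (t : ι → ModSite.sect G V),
      p.fiber.map g v = w ∧ ∀ i, φ.val.app (op V) (t i) = rs F g (s i) := by
  choose m hm using h
  obtain ⟨V₁, g₁, v₁, t, hv₁, ht⟩ := exists_lift_near p m W w
  obtain ⟨V, g₂, v, hv, he⟩ := exists_eq_near p V₁ v₁ (fun i => φ.val.app (op V₁) (t i)) (fun i => rs F g₁ (s i))
    fun i => by rw [← stalkMap_gm, ht, hm, gm_rs, hv₁]
  refine ⟨V, g₂ ≫ g₁, v, fun i => rs G g₂ (t i), by rw [map_comp_eq, hv, hv₁], fun i => ?_⟩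
  rw [← rs_rs, ← he i]
  exact (Groth.L15.ExtSupp.res_natural φ g₂ (t i)).symm

/-- A map hitting generators is an epimorphism on the slice. -/
theorem epi_restr_map {G : ModSite.Mod O} (φ : G ⟶ F) {W : C} {I : Type u} {s : I → ModSite.sect F W}
    (hs : IsGen F W s) (t : I → ModSite.sect G W) (ht : ∀ i, φ.val.app (op W) (t i) = s i) :
    Epi ((ModSite.restr O W).map φ) := by
  refine epi_of_locally_image _ fun T e => ?_
  obtain ⟨S, hS, hd⟩ := hs T.hom e
  obtain ⟨S', hS', hS'd⟩ := exists_slice_cover hS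
  refine ⟨S', hS', fun T' k hk => ?_⟩
  obtain ⟨c, hc⟩ := (mem_span_iff_lcs (k.left ≫ T.hom) s _).1 (hd k.left (hS'd k hk))
  refine ⟨lcs G T'.hom t c, ?_⟩
  show φ.val.app (op T'.left) (lcs G T'.hom t c) = rs F k.left e
  rw [map_lcs, show (fun i => φ.val.app (op W) (t i)) = s from funext ht, ← Over.w k]
  exact hc

/-- Germs of generators without relations are linearly independent. -/
theorem linearIndependent_gm {W : C} (P : SPres F W) [IsEmpty P.R] (w : p.fiber.obj W) :
    LinearIndependent (ModSite.stalkRing p O) fun i => gm p F W w (P.s i) := by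
  rw [linearIndependent_iff]
  intro v hv
  obtain ⟨V, g, z, c, hz, hc⟩ := exists_vec_lift p v W w
  obtain ⟨Y, k, y, hy, he⟩ := exists_eq_near p V z (fun _ : Unit => lcs F g P.s c) (fun _ => 0) fun _ => by
    rw [gm_lcs, hz, hc, hv, map_zero]
  have h0 : lcs F (k ≫ g) P.s (rR O k c) = 0 := (rs_lcs F g k P.s c).symm.trans ((he ()).trans (map_zero _))
  obtain ⟨S, hS, hd⟩ := P.isRel.2 (k ≫ g) _ h0
  obtain ⟨Z, l, hl, z', hz'⟩ := p.jointly_surjective S hS y
  have h1 := hd l hl
  rw [Set.range_eq_empty, Submodule.span_empty, Submodule.mem_bot] at h1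
  have h2 := coeff_unique _ h1
  rw [← hc, ← hy, ← hz', ← gV_rR, ← gV_rR, h2, map_zero]

/-- The basis of a stalk given by generators without relations. -/
def basisAt {W : C} (P : SPres F W) [IsEmpty P.R] (w : p.fiber.obj W) :
    Module.Basis P.I (ModSite.stalkRing p O) (ModSite.stalkMod p F) :=
  Module.Basis.mk (linearIndependent_gm p P w) (span_gm_eq_top p F P.gen w).ge

/-- An isomorphism with a free module on a slice gives generators without relations. -/
theorem exists_spres_of_iso {W : C} {I : Type u}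
    (e : rF W F ≅ (SheafOfModules.free I : ModSite.Mod (O.over W))) :
    ∃ s : I → ModSite.sect F W, IsGen F W s ∧ IsRel F W s (fun j : PEmpty.{u+1} => j.elim) := by
  refine ⟨fun i => e.inv.val.app (op (topObj W)) (bas (O.over W) i (topObj W)), isGen_of_epi e.inv,
    fun j => j.elim, fun U g c hc => ⟨⊤, J.top_mem U, fun V h _ => ?_⟩⟩
  let T : Over W := Over.mk g
  have h1 : e.inv.val.app (op T) (lb (O.over W) T c) = 0 := by
    refine Eq.trans ?_ hc
    refine (Finsupp.apply_linearCombination (O.obj.obj (op U)) (e.inv.val.app (op T)).hom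
      (fun i => bas (O.over W) i T) c).trans ?_
    refine congrArg (fun v => Finsupp.linearCombination (O.obj.obj (op U)) v c) (funext fun i => ?_)
    let r : T ⟶ topObj W := Over.homMk g
    exact ((Groth.L15.ExtSupp.res_natural e.inv r (bas (O.over W) i (topObj W))).trans
      (congrArg (e.inv.val.app (op T)) (bas_res i r))).symm
  have h2 : lb (O.over W) T c = 0 :=
    Groth.L15.ExtSupp.val_app_injective e.inv T (h1.trans (map_zero (e.inv.val.app (op T)).hom).symm)
  rw [coeff_unique (O := O.over W) (U := T) c h2, map_zero, map_zero]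
  exact zero_mem _

/-- Generators and relations from an isomorphism with a free module on a slice. -/
def spresOfIso {W : C} {I : Type u} (e : rF W F ≅ (SheafOfModules.free I : ModSite.Mod (O.over W))) :
    SPres F W where
  I := I
  s := (exists_spres_of_iso e).choose
  gen := (exists_spres_of_iso e).choose_spec.1
  R := PEmpty.{u+1}
  w := fun j => j.elim
  isRel := (exists_spres_of_iso e).choose_spec.2

/-- Generators without relations trivialise a module on the slice. -/
theorem nonempty_iso_free {W : C} (P : SPres F W) [IsEmpty P.R] :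
    Nonempty (rF W F ≅ (SheafOfModules.free P.I : ModSite.Mod (O.over W))) := by
  haveI : Mono (desc (G := rF W F) P.s) := P.mono_desc
  haveI : Epi (desc (G := rF W F) P.s) := epi_desc P.gen
  haveI : IsIso (desc (G := rF W F) P.s) := isIso_of_mono_of_epi _
  exact ⟨(asIso (desc (G := rF W F) P.s)).symm⟩

/-- A finitely presented module whose stalk is free of finite rank is free near the point. -/
theorem exists_free_near {W₀ : C} (P : SPres F W₀) [Finite P.I] [Finite P.R] (w₀ : p.fiber.obj W₀) {ι : Type u}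
    [Finite ι] (b : Module.Basis ι (ModSite.stalkRing p O) (ModSite.stalkMod p F)) :
    ∃ (W : C) (g : W ⟶ W₀) (w : p.fiber.obj W), p.fiber.map g w = w₀ ∧
      ∃ s : ι → ModSite.sect F W, IsGen F W s ∧ IsRel F W s (fun j : PEmpty.{u+1} => j.elim) := by
  classical
  obtain ⟨a₀, ha₀, hrel₀⟩ := IsRel.exists_vec P.isRel
  -- lifts of the basis, and their expansions
  obtain ⟨W₁, g₁, w₁, t₁, hw₁, ht₁⟩ := exists_lift_near p (fun j => b j) W₀ w₀
  choose S hS hd using fun j => P.gen g₁ (t₁ j)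
  obtain ⟨T, hT, hle⟩ := exists_inter' S hS
  obtain ⟨W₂, k₂, hk₂, w₂, hw₂⟩ := p.jointly_surjective T hT w₁
  let g₂ : W₂ ⟶ W₀ := k₂ ≫ g₁
  choose Bc hBc using fun j => (mem_span_iff_lcs g₂ P.s _).1 (hd j k₂ (hle j _ hk₂))
  have hg₂ : p.fiber.map g₂ w₂ = w₀ := by rw [map_comp_eq, hw₂, hw₁]
  have ht₂ : ∀ j, gm p F W₂ w₂ (rs F k₂ (t₁ j)) = b j := fun j => by rw [gm_rs, hw₂, ht₁]
  -- expansions of the generators
  obtain ⟨W₃, k₃, w₃, f, hw₃, hf⟩ := exists_func_lift p
    (fun q : Fin (Nat.card (P.I × ι)) => b.repr (gm p F W₀ w₀ (P.s ((Finite.equivFin (P.I × ι)).symm q).1))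
      ((Finite.equivFin (P.I × ι)).symm q).2) W₂ w₂
  let A : P.I → (ι →₀ O.obj.obj (op W₃)) := fun i =>
    Finsupp.equivFunOnFinite.symm fun j => f ((Finite.equivFin (P.I × ι)) (i, j))
  have hA : ∀ i, gV p O W₃ w₃ (A i) = b.repr (gm p F W₀ w₀ (P.s i)) := fun i => Finsupp.ext fun j => by
    rw [gV_apply]
    refine (hf _).trans ?_
    simp
  let g₃ : W₃ ⟶ W₀ := k₃ ≫ g₂
  let t₃ : ι → ModSite.sect F W₃ := fun j => rs F (k₃ ≫ k₂) (t₁ j)
  have hg₃ : p.fiber.map g₃ w₃ = w₀ := by rw [map_comp_eq, hw₃, hg₂]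
  have ht₃ : ∀ j, gm p F W₃ w₃ (t₃ j) = b j := fun j => by rw [gm_rs, map_comp_eq, hw₃, hw₂, ht₁]
  have hs₃ : ∀ i, gm p F W₃ w₃ (lcs F (𝟙 W₃) t₃ (A i)) = gm p F W₃ w₃ (rs F g₃ (P.s i)) := fun i => by
    rw [gm_lcs, gm_rs, hg₃, hA, CategoryTheory.Functor.map_id]
    refine Eq.trans ?_ (b.linearCombination_repr (gm p F W₀ w₀ (P.s i)))
    exact congrArg (fun v => Finsupp.linearCombination (ModSite.stalkRing p O) v
      (b.repr (gm p F W₀ w₀ (P.s i)))) (funext ht₃)
  -- the vectors which must vanish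
  let a₃ : P.R → (ι →₀ O.obj.obj (op W₃)) := fun r =>
    Finsupp.linearCombination (O.obj.obj (op W₃)) A (rR O g₃ (a₀ r))
  let u₃ : ι → (ι →₀ O.obj.obj (op W₃)) := fun j =>
    Finsupp.single j 1 - Finsupp.linearCombination (O.obj.obj (op W₃)) A (rR O k₃ (Bc j))
  obtain ⟨W₄, k₄, w₄, hw₄, he⟩ := exists_eq_near p W₃ w₃ (fun i => lcs F (𝟙 W₃) t₃ (A i))
    (fun i => rs F g₃ (P.s i)) hs₃
  have hlcs : ∀ {U : C} (h : U ⟶ W₄) (q : U ⟶ W₃), h ≫ k₄ = q → ∀ c : P.I →₀ O.obj.obj (op U),
      lcs F (q ≫ g₃) P.s c = lcs F q t₃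
        (Finsupp.linearCombination (O.obj.obj (op U)) (fun i => rR O q (A i)) c) := fun {U} h q hq c => by
    subst hq
    rw [Finsupp.apply_linearCombination]
    refine congrArg (fun v => Finsupp.linearCombination (O.obj.obj (op U)) v c) (funext fun i => ?_)
    show rs F ((h ≫ k₄) ≫ g₃) (P.s i) = lcs F (h ≫ k₄) t₃ (rR O (h ≫ k₄) (A i))
    have e1 := congrArg (rs F h) (he i)
    rw [rs_rs, rs_rs, rs_lcs, rs_rs, Category.comp_id] at e1
    rw [e1, Category.assoc]
  let v : P.R ⊕ ι → (ι →₀ O.obj.obj (op W₄)) := Sum.elim (fun r => rR O k₄ (a₃ r)) fun j => rR O k₄ (u₃ j)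
  have hrRA : ∀ {U : C} (q : U ⟶ W₃) (c : P.I →₀ O.obj.obj (op W₃)),
      rR O q (Finsupp.linearCombination (O.obj.obj (op W₃)) A c) =
        Finsupp.linearCombination (O.obj.obj (op U)) (fun i => rR O q (A i)) (rR O q c) :=
    fun {U} q c => rR_linearCombination q A c
  have hv0 : ∀ q, lcs F k₄ t₃ (v q) = 0 := by
    rintro (r | j)
    · show lcs F k₄ t₃ (rR O k₄ (Finsupp.linearCombination (O.obj.obj (op W₃)) A (rR O g₃ (a₀ r)))) = 0
      have e1 := hlcs (𝟙 W₄) k₄ (Category.id_comp _) (rR O k₄ (rR O g₃ (a₀ r)))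
      have e2 := hrRA k₄ (rR O g₃ (a₀ r))
      rw [e2, ← e1, rR_rR]
      have e3 := congrArg (rs F (k₄ ≫ g₃)) (ha₀ r)
      rw [rs_lcs, map_zero, Category.comp_id] at e3
      exact e3
    · show lcs F k₄ t₃ (rR O k₄ (Finsupp.single j 1 -
        Finsupp.linearCombination (O.obj.obj (op W₃)) A (rR O k₃ (Bc j)))) = 0
      have e1 := hlcs (𝟙 W₄) k₄ (Category.id_comp _) (rR O k₄ (rR O k₃ (Bc j)))
      have e2 := hrRA k₄ (rR O k₃ (Bc j))
      rw [map_sub, rR_single, map_one, e2, map_sub, ← e1, Finsupp.linearCombination_single, one_smul, sub_eq_zero,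
        rR_rR]
      have e3 := congrArg (rs F (k₄ ≫ k₃)) (hBc j)
      rw [rs_lcs, rs_rs] at e3
      simp only [g₃, t₃, rs_rs, Category.assoc] at e3 ⊢
      exact e3.symm
  have hvz : ∀ q, gV p O W₄ w₄ (v q) = 0 := fun q => by
    have e1 := congrArg (gm p F W₄ w₄) (hv0 q)
    rw [gm_lcs, hw₄, map_zero, show (fun j => gm p F W₃ w₃ (t₃ j)) = ⇑b from funext ht₃] at e1
    exact linearIndependent_iff.1 b.linearIndependent _ e1
  obtain ⟨W, k, w, hw, hk⟩ := (by
    haveI : Finite ((P.R ⊕ ι) × ι) := inferInstance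
    obtain ⟨n, ⟨E⟩⟩ := Finite.exists_equiv_fin ((P.R ⊕ ι) × ι)
    obtain ⟨W, k, w, hw, hk⟩ := exists_func_eq p W₄ w₄ (fun q => v (E.symm q).1 (E.symm q).2) (fun _ => 0)
      fun q => by rw [← gV_apply, hvz, map_zero]; rfl
    exact ⟨W, k, w, hw, fun q => Finsupp.ext fun j => by
      simpa using hk (E (q, j))⟩ :
    ∃ (W : C) (k : W ⟶ W₄) (w : p.fiber.obj W), p.fiber.map k w = w₄ ∧ ∀ q, rR O k (v q) = 0)
  let g : W ⟶ W₀ := k ≫ k₄ ≫ g₃
  refine ⟨W, g, w, by rw [map_comp_eq, hw, map_comp_eq, hw₄, hg₃], fun j => rs F (k ≫ k₄) (t₃ j), ?_, ?_⟩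
  · intro U h e
    obtain ⟨S', hS', hd'⟩ := P.gen (h ≫ g) e
    refine ⟨S', hS', fun V l hl => ?_⟩
    obtain ⟨c, hc⟩ := (mem_span_iff_lcs (l ≫ h ≫ g) P.s _).1 (hd' l hl)
    let q : V ⟶ W₃ := (l ≫ h) ≫ k ≫ k₄
    rw [show l ≫ h ≫ g = q ≫ g₃ by simp only [q, g, Category.assoc],
      hlcs ((l ≫ h) ≫ k) q (Category.assoc _ _ _)] at hc
    refine (mem_span_iff_lcs (l ≫ h) (fun j => rs F (k ≫ k₄) (t₃ j)) _).2
      ⟨Finsupp.linearCombination (O.obj.obj (op V)) (fun i => rR O q (A i)) c, ?_⟩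
    rw [lcs_rs]
    exact hc
  · refine ⟨fun j => j.elim, fun U h d hd' => ?_⟩
    rw [lcs_rs, ← Category.assoc] at hd'
    let q : U ⟶ W₃ := (h ≫ k) ≫ k₄
    have h0 : ∀ z : P.R ⊕ ι, rR O q (Sum.elim a₃ u₃ z) = 0 := fun z => by
      show rR O ((h ≫ k) ≫ k₄) _ = 0
      rw [← rR_rR k₄ (h ≫ k), ← rR_rR k h]
      refine (congrArg (rR O h) ?_).trans (map_zero (rR O h))
      refine Eq.trans ?_ (hk z)
      rcases z with r | j <;> rfl
    have key : ∀ (d : ι →₀ O.obj.obj (op U)), d = Finsupp.linearCombination (O.obj.obj (op U))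
        (fun i => rR O q (A i))
        (Finsupp.linearCombination (O.obj.obj (op U)) (fun j => rR O (q ≫ k₃) (Bc j)) d) := fun d => by
      induction d using Finsupp.induction_linear with
      | zero => simp only [map_zero]
      | add d d' hd₁ hd₂ => simp only [map_add, ← hd₁, ← hd₂]
      | single j r =>
        have e1 : rR O q (Finsupp.single j 1 - Finsupp.linearCombination (O.obj.obj (op W₃)) A (rR O k₃ (Bc j))) = 0 :=
          h0 (Sum.inr j)
        rw [map_sub, rR_single, map_one, sub_eq_zero, hrRA q, rR_rR] at e1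
        rw [Finsupp.linearCombination_single, map_smul, ← e1, Finsupp.smul_single, smul_eq_mul, mul_one]
    let e := Finsupp.linearCombination (O.obj.obj (op U)) (fun j => rR O (q ≫ k₃) (Bc j)) d
    have he0 : lcs F (q ≫ g₃) P.s e = 0 := by
      rw [hlcs (h ≫ k) q rfl e, ← key d]
      exact hd'
    have hg : h ≫ g = q ≫ g₃ := by simp only [q, g, Category.assoc]
    rw [← hg] at he0
    obtain ⟨S', hS', hd₀⟩ := hrel₀ (h ≫ g) e he0
    refine ⟨S', hS', fun V l hl => ?_⟩
    have h2 : rR O l d = 0 := by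
      let Ah := Finsupp.linearCombination (O.obj.obj (op V)) (fun i => rR O (l ≫ q) (A i))
      have e1 : rR O l d = Ah (rR O l e) := by
        conv_lhs => rw [key d]
        show rR O l (Finsupp.linearCombination (O.obj.obj (op U)) _ e) = _
        rw [rR_linearCombination]
        exact congrArg (fun v => Finsupp.linearCombination (O.obj.obj (op V)) v (rR O l e))
          (funext fun i => rR_rR q l (A i))
      rw [e1]
      have h3 : Submodule.span (O.obj.obj (op V)) (Set.range fun r => rR O (l ≫ h ≫ g) (a₀ r)) ≤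
          LinearMap.ker Ah := by
        refine Submodule.span_le.2 ?_
        rintro _ ⟨r, rfl⟩
        show Ah (rR O (l ≫ h ≫ g) (a₀ r)) = 0
        rw [show l ≫ h ≫ g = (l ≫ q) ≫ g₃ by simp only [hg, q, Category.assoc], ← rR_rR g₃ (l ≫ q)]
        refine (hrRA (l ≫ q) (rR O g₃ (a₀ r))).symm.trans ?_
        rw [← rR_rR q l]
        exact (congrArg (rR O l) (h0 (Sum.inl r))).trans (map_zero _)
      exact h3 (hd₀ l hl)
    rw [h2, map_zero]
    exact zero_mem _

end Groth.L10.SecPres.AtPoint
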