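import Groth.Agent.L10.SecPres.AtPoint
import Mathlib.Topology.Sheaves.Points
import Mathlib.Topology.Sheaves.Stalks
import Mathlib.Topology.Sheaves.CommRingCat
import Mathlib.RingTheory.LocalRing.Module
import Mathlib.RingTheory.OrzechProperty
import Mathlib.LinearAlgebra.Dimension.StrongRankCondition

/-! Modules on ringed spaces near a point, and their stalks. -/

set_option autoImplicit false
set_option linter.style.haveILetI false
set_option backward.isDefEq.respectTransparency false
set_option backward.isDefEq.respectTransparency.types false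

universe u

open CategoryTheory CategoryTheory.Limits Opposite TopologicalSpace

noncomputable section

namespace Groth.L10.SecPres.AtPoint

open Groth.L15.FlatCrit Groth.L15.PullFlat Groth.L15.LocPres

variable {C : Type u} [SmallCategory C] {J : GrothendieckTopology C} {O : Sheaf J CommRingCat.{u}}

theorem val_app_comp_inv {F F' : ModSite.Mod O} (e : F ≅ F') (U : C) (x : ModSite.sect F' U) :
    e.hom.val.app (op U) (e.inv.val.app (op U) x) = x :=
  congr(($(e.inv_hom_id)).val.app (op U) x)

/-- Generators and relations transport along isomorphisms. -/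
def spresMap {F F' : ModSite.Mod O} (e : F ≅ F') {W : C} (P : SPres F W) : SPres F' W where
  I := P.I
  s i := e.hom.val.app (op W) (P.s i)
  gen U g x := by
    obtain ⟨S, hS, hd⟩ := P.gen g (e.inv.val.app (op U) x)
    refine ⟨S, hS, fun V h hh => ?_⟩
    obtain ⟨c, hc⟩ := (mem_span_iff_lcs (h ≫ g) P.s _).1 (hd h hh)
    refine (mem_span_iff_lcs (h ≫ g) _ _).2 ⟨c, ?_⟩
    rw [← map_lcs e.hom, hc]
    refine (Groth.L15.ExtSupp.res_natural e.hom h _).symm.trans ?_
    show rs F' h (e.hom.val.app (op U) (e.inv.val.app (op U) x)) = rs F' h x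
    rw [val_app_comp_inv]
  R := P.R
  w := P.w
  isRel := by
    refine ⟨fun j V h c hc => ?_, fun U g c hc => ?_⟩
    · rw [← map_lcs e.hom, P.isRel.1 j h c hc]
      exact map_zero (e.hom.val.app (op V)).hom
    · rw [← map_lcs e.hom] at hc
      exact P.isRel.2 g c
        (Groth.L15.ExtSupp.val_app_injective e.hom U (hc.trans (map_zero (e.hom.val.app (op U)).hom).symm))

theorem isFinitePresentation_of_iso {F F' : ModSite.Mod O} (e : F ≅ F')
    (h : SheafOfModules.IsFinitePresentation (R := ModSite.ringSh O) F) :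
    SheafOfModules.IsFinitePresentation (R := ModSite.ringSh O) F' := by
  refine isFinitePresentation_iff.2 (locally_bind (isFinitePresentation_iff.1 h) ?_)
  rintro W ⟨P, hI, hR⟩
  exact ⟨⊤, J.top_mem W, fun V v _ => ⟨(spresMap e P).res v, hI, hR⟩⟩

theorem stalkMap_injective_of_bases {G F : ModSite.Mod O} (p : GrothendieckTopology.Point.{u} J) (φ : G ⟶ F)
    {ι : Type u} [Finite ι] (bG : Module.Basis ι (ModSite.stalkRing p O) (ModSite.stalkMod p G))
    (bF : Module.Basis ι (ModSite.stalkRing p O) (ModSite.stalkMod p F))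
    (hφ : Function.Surjective (ModSite.stalkMap p φ).hom) : Function.Injective (ModSite.stalkMap p φ).hom := by
  haveI := Module.Finite.of_basis bG
  let T := (bF.equiv bG (Equiv.refl ι)).toLinearMap.comp (ModSite.stalkMap p φ).hom
  have hT : Function.Surjective T := (bF.equiv bG (Equiv.refl ι)).surjective.comp hφ
  exact Function.Injective.of_comp (f := bF.equiv bG (Equiv.refl ι))
    (OrzechProperty.injective_of_surjective_endomorphism T hT)

theorem stalkMap_surjective_of_epi {G F : ModSite.Mod O} (p : GrothendieckTopology.Point.{u} J) (φ : G ⟶ F)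
    [Epi φ] : Function.Surjective (ModSite.stalkMap p φ).hom := by
  intro m
  obtain ⟨U, u₀, z, hz⟩ := p.toPresheafFiber_jointly_surjective (P := (ModSite.toAb F).obj) m
  obtain ⟨S, hS, hd⟩ := Groth.L15.FPFree.exists_local_lift φ (show ModSite.sect F U from z)
  obtain ⟨V, g, hg, v, hv⟩ := p.jointly_surjective S hS u₀
  obtain ⟨y, hy⟩ := hd g hg
  refine ⟨gm p G V v y, ?_⟩
  refine (stalkMap_gm p F φ V v y).trans ((congrArg (gm p F V v) hy).trans ?_)
  refine (gm_rs p F g v _).trans ?_
  rw [hv]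
  exact hz

/-- The stalk of a direct summand is a direct summand. -/
theorem stalkMap_retraction {F H : ModSite.Mod O} (p : GrothendieckTopology.Point.{u} J) (i : F ⟶ H) (q : H ⟶ F)
    (h : i ≫ q = 𝟙 F) : (ModSite.stalkMap p q).hom.comp (ModSite.stalkMap p i).hom = LinearMap.id := by
  refine LinearMap.ext fun m => ?_
  obtain ⟨U, u₀, z, hz⟩ := p.toPresheafFiber_jointly_surjective (P := (ModSite.toAb F).obj) m
  obtain rfl : gm p F U u₀ (show ModSite.sect F U from z) = m := hz
  show (ModSite.stalkMap p q).hom ((ModSite.stalkMap p i).hom _) = _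
  rw [stalkMap_gm, stalkMap_gm]
  exact congrArg (gm p F U u₀) congr(($h).val.app (op U) z)

end Groth.L10.SecPres.AtPoint

namespace Groth.L10.SecPres.AtPoint

open Groth.L15.FlatCrit Groth.L15.PullFlat Groth.L15.LocPres

variable {X : TopCat.{u}} (O : TopCat.Sheaf CommRingCat.{u} X)

/-- The point of the site given by a point of the space. -/
abbrev pt (x : X) : GrothendieckTopology.Point.{u} (Opens.grothendieckTopology X) :=
  Opens.pointGrothendieckTopology x

variable {O}

theorem mem_of_fib {x : X} {U : Opens X} (w : (pt x).fiber.obj U) : x ∈ U := w.down.down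

theorem fib_eq {x : X} {U : Opens X} (w w' : (pt x).fiber.obj U) : w = w' := by
  rcases w with ⟨⟨_⟩⟩
  rcases w' with ⟨⟨_⟩⟩
  rfl

theorem exists_near_point {P : Opens X → Prop} (h : Locally (Opens.grothendieckTopology X) P) (x : X) :
    ∃ W : Opens X, x ∈ W ∧ P W := by
  obtain ⟨W, _, w, _, hP⟩ := exists_near (pt x) h (⊤ : Opens X) ⟨⟨trivial⟩⟩
  exact ⟨W, mem_of_fib w, hP⟩

theorem locally_of_forall_point {P : Opens X → Prop}
    (hres : ∀ {W V : Opens X} (_ : V ⟶ W), P W → P V) (h : ∀ x : X, ∃ W : Opens X, x ∈ W ∧ P W) :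
    Locally (Opens.grothendieckTopology X) P := fun U =>
  ⟨{ arrows := fun V _ => P V
     downward_closed := fun {_ _ _} hP g => hres g hP },
    fun y hy => by
      obtain ⟨W, hyW, hW⟩ := h y
      exact ⟨U ⊓ W, homOfLE inf_le_left, hres (homOfLE inf_le_right) hW, ⟨hy, hyW⟩⟩,
    fun _ _ hP => hP⟩

theorem mono_of_stalkMap_injective {G F : ModSite.Mod O} (φ : G ⟶ F)
    (h : ∀ x : X, Function.Injective (ModSite.stalkMap (pt x) φ).hom) : Mono φ := by
  have key : ∀ (U : Opens X) (z : ModSite.sect G U), φ.val.app (op U) z = 0 → z = 0 := fun U z hz => by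
    let S : Sieve U :=
      { arrows := fun V k => rs G k z = 0
        downward_closed := fun {V' V k} hk l => by
          show rs G (l ≫ k) z = 0
          rw [← rs_rs, show rs G k z = 0 from hk, map_zero] }
    have hS : S ∈ Opens.grothendieckTopology X U := fun y hy => by
      have h0 : gm (pt y) G U ⟨⟨hy⟩⟩ z = gm (pt y) G U ⟨⟨hy⟩⟩ 0 := by
        refine h y ?_
        rw [stalkMap_gm, stalkMap_gm, hz]
        exact congrArg _ (map_zero (φ.val.app (op U)).hom).symm
      obtain ⟨V, g, v, _, hg⟩ := exists_eq_near (pt y) U ⟨⟨hy⟩⟩ (fun _ : Unit => z) (fun _ => 0) fun _ => h0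
      exact ⟨V, g, (hg ()).trans (map_zero _), mem_of_fib v⟩
    exact Groth.L15.ExtSupp.sect_ext G S hS z 0 fun V k hk =>
      (show rs G k z = 0 from hk).trans (map_zero _).symm
  refine ⟨fun {M} p q hpq => SheafOfModules.Hom.ext (PresheafOfModules.hom_ext fun T => ?_)⟩
  refine ModuleCat.hom_ext (LinearMap.ext fun z => ?_)
  rw [← sub_eq_zero]
  refine key T.unop _ ?_
  exact (map_sub (φ.val.app T).hom _ _).trans (sub_eq_zero.2 congr(($hpq).val.app T z))

/-- Units of the stalk of the presheaf are units of the stalk at the point of the site. -/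
theorem isUnit_germRingHom {x : X} {W : Opens X} (hx : x ∈ W) (w : (pt x).fiber.obj W) (f : O.obj.obj (op W))
    (h : IsUnit (O.presheaf.germ W x hx f)) : IsUnit (germRingHom (pt x) O W w f) := by
  obtain ⟨g₀, hg₀⟩ := isUnit_iff_exists_inv.1 h
  obtain ⟨V, hxV, g, rfl⟩ := TopCat.Presheaf.exists_germ_eq (F := O.presheaf) g₀
  let iW : W ⊓ V ⟶ W := homOfLE inf_le_left
  let iV : W ⊓ V ⟶ V := homOfLE inf_le_right
  have hmul : O.presheaf.germ (W ⊓ V) x ⟨hx, hxV⟩ (rr O iW f * rr O iV g) =
      O.presheaf.germ (W ⊓ V) x ⟨hx, hxV⟩ 1 := by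
    rw [map_mul, map_one]
    refine Eq.trans ?_ hg₀
    exact congrArg₂ _ (O.presheaf.germ_res_apply iW x ⟨hx, hxV⟩ f) (O.presheaf.germ_res_apply iV x ⟨hx, hxV⟩ g)
  have hxWV : x ∈ W ⊓ V := ⟨hx, hxV⟩
  obtain ⟨Y, hxY, iU, iU', he⟩ := TopCat.Presheaf.germ_eq O.presheaf x hxWV hxWV _ _ hmul
  change rr O iU (rr O iW f * rr O iV g) = rr O iU' 1 at he
  rw [map_mul, map_one, rr_rr] at he
  have h1 := congrArg (germRingHom (pt x) O Y ⟨⟨hxY⟩⟩) he
  rw [map_mul, map_one, germ_rr, fib_eq ((pt x).fiber.map (iU ≫ iW) ⟨⟨hxY⟩⟩) w] at h1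
  exact IsUnit.of_mul_eq_one _ h1

theorem nontrivial_stalkRing {x : X} (h : Nontrivial (O.presheaf.stalk x)) :
    Nontrivial (ModSite.stalkRing (pt x) O) := by
  refine ⟨⟨1, 0, fun h10 => ?_⟩⟩
  obtain ⟨Y, g, y, _, hY⟩ := exists_func_eq (pt x) (O := O) (⊤ : Opens X) ⟨⟨trivial⟩⟩ (fun _ : Fin 1 => 1) (fun _ => 0)
    fun _ => by rw [map_one, map_zero]; exact h10
  have h1 := hY 0
  rw [map_one, map_zero] at h1
  have h2 := congrArg (O.presheaf.germ Y x (mem_of_fib y)) h1
  rw [map_one, map_zero] at h2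
  exact one_ne_zero h2

theorem isLocalRing_stalkRing {x : X} (h : IsLocalRing (O.presheaf.stalk x)) :
    IsLocalRing (ModSite.stalkRing (pt x) O) := by
  haveI := nontrivial_stalkRing (O := O) (x := x) inferInstance
  refine IsLocalRing.of_isUnit_or_isUnit_of_isUnit_add fun {a b} hab => ?_
  obtain ⟨c, hc⟩ := isUnit_iff_exists_inv.1 hab
  obtain ⟨W, _, w, f, _, hf⟩ := exists_func_lift (pt x) (O := O) ![a, b, c] (⊤ : Opens X) ⟨⟨trivial⟩⟩
  obtain ⟨Y, g, y, hy, he⟩ := exists_func_eq (pt x) W w (fun _ : Fin 1 => (f 0 + f 1) * f 2) (fun _ => 1) fun _ => by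
    rw [map_mul, map_add, map_one, hf, hf, hf]
    exact hc
  have h1 := congrArg (O.presheaf.germ Y x (mem_of_fib y)) (he 0)
  rw [map_mul, map_add, map_one] at h1
  have hu : IsUnit (O.presheaf.germ Y x (mem_of_fib y) (rr O g (f 0)) +
      O.presheaf.germ Y x (mem_of_fib y) (rr O g (f 1))) := by
    rw [map_one, map_mul, map_add] at h1
    exact IsUnit.of_mul_eq_one _ h1
  rcases IsLocalRing.isUnit_or_isUnit_of_isUnit_add hu with h2 | h2
  · left
    have := isUnit_germRingHom (mem_of_fib y) y _ h2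
    rwa [germ_rr, hy, hf] at this
  · right
    have := isUnit_germRingHom (mem_of_fib y) y _ h2
    rwa [germ_rr, hy, hf] at this

end Groth.L10.SecPres.AtPoint
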