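import Groth.Agent.L15.LocPres.Basic
import Groth.Agent.L15.ExtSupp.Quot
import Mathlib.Algebra.Category.ModuleCat.Sheaf.Quasicoherent
import Mathlib.LinearAlgebra.Finsupp.LinearCombination

/-! Generators and relations of modules on a ringed site in terms of sections. -/

set_option autoImplicit false
set_option backward.isDefEq.respectTransparency false

universe u

open CategoryTheory CategoryTheory.Limits Opposite

noncomputable section

namespace Groth.L10.SecPres

open Groth.L15.FlatCrit Groth.L15.PullFlat Groth.L15.LocPres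

variable {C : Type u} [SmallCategory C] {J : GrothendieckTopology C} {O : Sheaf J CommRingCat.{u}}

/-- Restriction of sections, as a semilinear map. -/
def rsₗ (F : ModSite.Mod O) {V W : C} (g : W ⟶ V) : ModSite.sect F V →ₛₗ[rr O g] ModSite.sect F W where
  toFun := rs F g
  map_add' := map_add _
  map_smul' := rs_smul F g

variable (O) in
/-- Restriction of coefficient vectors. -/
def rR {I : Type u} {V W : C} (g : W ⟶ V) :
    (I →₀ O.obj.obj (op V)) →ₛₗ[rr O g] (I →₀ O.obj.obj (op W)) where
  toFun c := Finsupp.mapRange (rr O g) (map_zero _) c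
  map_add' c d := Finsupp.mapRange_add (map_add _) c d
  map_smul' r c := Finsupp.ext fun i => by simp

@[simp] theorem rR_apply {I : Type u} {V W : C} (g : W ⟶ V) (c : I →₀ O.obj.obj (op V)) (i : I) :
    rR O g c i = rr O g (c i) := Finsupp.mapRange_apply (hf := map_zero _)

theorem rR_rR {I : Type u} {V W Y : C} (g : W ⟶ V) (h : Y ⟶ W) (c : I →₀ O.obj.obj (op V)) :
    rR O h (rR O g c) = rR O (h ≫ g) c :=
  Finsupp.ext fun i => by simp only [rR_apply]; exact rr_rr O g h (c i)

@[simp] theorem rR_single {I : Type u} {V W : C} (g : W ⟶ V) (i : I) (r : O.obj.obj (op V)) :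
    rR O g (Finsupp.single i r) = Finsupp.single i (rr O g r) :=
  Finsupp.mapRange_single (hf := map_zero _)

theorem mem_span_map {R R' M M' : Type*} [Semiring R] [Semiring R'] [AddCommMonoid M] [Module R M]
    [AddCommMonoid M'] [Module R' M'] {σ : R →+* R'} (φ : M →ₛₗ[σ] M') {s : Set M} {t : Set M'}
    (h : ∀ x ∈ s, φ x ∈ Submodule.span R' t) {x : M} (hx : x ∈ Submodule.span R s) :
    φ x ∈ Submodule.span R' t := by
  induction hx using Submodule.span_induction with
  | mem x hx => exact h x hx
  | zero => rw [map_zero]; exact zero_mem _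
  | add x y _ _ hx hy => rw [map_add]; exact add_mem hx hy
  | smul r x _ hx => rw [map_smulₛₗ]; exact Submodule.smul_mem _ _ hx

/-- The combinations of restricted sections. -/
abbrev lcs (F : ModSite.Mod O) {I : Type u} {U W : C} (g : U ⟶ W) (s : I → ModSite.sect F W) :
    (I →₀ O.obj.obj (op U)) →ₗ[O.obj.obj (op U)] ModSite.sect F U :=
  Finsupp.linearCombination (O.obj.obj (op U)) fun i => rs F g (s i)

theorem rs_lcs (F : ModSite.Mod O) {I : Type u} {V U W : C} (g : U ⟶ W) (h : V ⟶ U)
    (s : I → ModSite.sect F W) (c : I →₀ O.obj.obj (op U)) :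
    rs F h (lcs F g s c) = lcs F (h ≫ g) s (rR O h c) := by
  induction c using Finsupp.induction_linear with
  | zero => simp only [map_zero]
  | add c d hc hd => simp only [map_add, hc, hd]
  | single i r =>
    rw [rR_single, Finsupp.linearCombination_single, Finsupp.linearCombination_single, rs_smul, rs_rs]

theorem map_lcs {F G : ModSite.Mod O} (φ : F ⟶ G) {I : Type u} {U W : C} (g : U ⟶ W)
    (s : I → ModSite.sect F W) (c : I →₀ O.obj.obj (op U)) :
    φ.val.app (op U) (lcs F g s c) = lcs G g (fun i => φ.val.app (op W) (s i)) c := by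
  refine (Finsupp.apply_linearCombination (O.obj.obj (op U))
    ((φ.val.app (op U)).hom : ModSite.sect F U →ₗ[O.obj.obj (op U)] ModSite.sect G U)
    (fun i => rs F g (s i)) c).trans ?_
  refine congrArg (fun v => Finsupp.linearCombination (O.obj.obj (op U)) v c) (funext fun i => ?_)
  exact (Groth.L15.ExtSupp.res_natural φ g (s i)).symm

theorem mem_span_iff_lcs {F : ModSite.Mod O} {I : Type u} {U W : C} (g : U ⟶ W)
    (s : I → ModSite.sect F W) (x : ModSite.sect F U) :
    x ∈ Submodule.span (O.obj.obj (op U)) (Set.range fun i => rs F g (s i)) ↔ ∃ c, lcs F g s c = x := by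
  rw [← Finsupp.range_linearCombination]
  exact LinearMap.mem_range

/-- Sections which locally generate over an object. -/
def IsGen (F : ModSite.Mod O) (W : C) {I : Type u} (s : I → ModSite.sect F W) : Prop :=
  ∀ ⦃U : C⦄ (g : U ⟶ W) (e : ModSite.sect F U), ∃ S ∈ J U, ∀ ⦃V : C⦄ (h : V ⟶ U), S h →
    rs F h e ∈ Submodule.span (O.obj.obj (op V)) (Set.range fun i => rs F (h ≫ g) (s i))

variable (O) in
/-- The combinations of basic sections of a free module. -/
abbrev lb {I : Type u} (U : C) :
    (I →₀ O.obj.obj (op U)) →ₗ[O.obj.obj (op U)] ModSite.sect (SheafOfModules.free I : ModSite.Mod O) U :=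
  Finsupp.linearCombination (O.obj.obj (op U)) fun i => bas O i U

theorem rs_lb {I : Type u} {U V : C} (h : V ⟶ U) (c : I →₀ O.obj.obj (op U)) :
    rs _ h (lb O U c) = lb O V (rR O h c) := by
  induction c using Finsupp.induction_linear with
  | zero => simp only [map_zero]
  | add c d hc hd => simp only [map_add, hc, hd]
  | single i r =>
    rw [rR_single, Finsupp.linearCombination_single, Finsupp.linearCombination_single, rs_smul, bas_res]

/-- Relations, as sections of a free module, which locally generate all relations. -/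
def IsRel (F : ModSite.Mod O) (W : C) {I R : Type u} (s : I → ModSite.sect F W)
    (w : R → ModSite.sect (SheafOfModules.free I : ModSite.Mod O) W) : Prop :=
  (∀ (j : R) ⦃V : C⦄ (h : V ⟶ W) (c : I →₀ O.obj.obj (op V)),
      rs _ h (w j) = lb O V c → lcs F h s c = 0) ∧
    ∀ ⦃U : C⦄ (g : U ⟶ W) (c : I →₀ O.obj.obj (op U)), lcs F g s c = 0 →
      ∃ S ∈ J U, ∀ ⦃V : C⦄ (h : V ⟶ U), S h →
        lb O V (rR O h c) ∈ Submodule.span (O.obj.obj (op V)) (Set.range fun j => rs _ (h ≫ g) (w j))

/-- Generators over an object. -/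
structure SGen (F : ModSite.Mod O) (W : C) where
  /-- the index type -/
  I : Type u
  /-- the sections -/
  s : I → ModSite.sect F W
  gen : IsGen F W s

/-- Generators and relations over an object. -/
structure SPres (F : ModSite.Mod O) (W : C) extends SGen F W where
  /-- the index type of relations -/
  R : Type u
  /-- the relations -/
  w : R → ModSite.sect (SheafOfModules.free I : ModSite.Mod O) W
  isRel : IsRel F W s w

theorem isGen_res {F : ModSite.Mod O} {W W' : C} (v : W' ⟶ W) {I : Type u} {s : I → ModSite.sect F W}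
    (h : IsGen F W s) : IsGen F W' fun i => rs F v (s i) := by
  intro U g e
  obtain ⟨S, hS, hd⟩ := h (g ≫ v) e
  refine ⟨S, hS, fun V k hk => ?_⟩
  convert hd k hk using 4
  rw [rs_rs, Category.assoc]

theorem lcs_rs (F : ModSite.Mod O) {I : Type u} {U W W' : C} (g : U ⟶ W') (v : W' ⟶ W)
    (s : I → ModSite.sect F W) : lcs F g (fun i => rs F v (s i)) = lcs F (g ≫ v) s :=
  congrArg (Finsupp.linearCombination (O.obj.obj (op U))) (funext fun i => rs_rs F v g (s i))

theorem isRel_res {F : ModSite.Mod O} {W W' : C} (v : W' ⟶ W) {I R : Type u} {s : I → ModSite.sect F W}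
    {w : R → ModSite.sect (SheafOfModules.free I : ModSite.Mod O) W} (h : IsRel F W s w) :
    IsRel F W' (fun i => rs F v (s i)) (fun j => rs _ v (w j)) := by
  refine ⟨fun j V k c hc => ?_, fun U g c hc => ?_⟩
  · rw [lcs_rs]
    exact h.1 j (k ≫ v) c ((rs_rs _ v k (w j)).symm.trans hc)
  · rw [lcs_rs] at hc
    obtain ⟨S, hS, hd⟩ := h.2 (g ≫ v) c hc
    refine ⟨S, hS, fun V k hk => ?_⟩
    convert hd k hk using 4
    rw [rs_rs, Category.assoc]

/-- Restriction of generators. -/
def SGen.res {F : ModSite.Mod O} {W W' : C} (P : SGen F W) (v : W' ⟶ W) : SGen F W' where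
  I := P.I
  s i := rs F v (P.s i)
  gen := isGen_res v P.gen

/-- Restriction of generators and relations. -/
def SPres.res {F : ModSite.Mod O} {W W' : C} (P : SPres F W) (v : W' ⟶ W) : SPres F W' where
  toSGen := P.toSGen.res v
  R := P.R
  w j := rs _ v (P.w j)
  isRel := isRel_res v P.isRel

section Epi

variable {G F : ModSite.Mod O}

/-- Locally surjective maps are epimorphisms. -/
theorem epi_of_locally_image (φ : G ⟶ F)
    (h : ∀ (U : C) (e : ModSite.sect F U), ∃ S ∈ J U, ∀ ⦃V : C⦄ (k : V ⟶ U), S k →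
      ∃ y : ModSite.sect G V, φ.val.app (op V) y = rs F k e) : Epi φ := by
  refine ⟨fun {H} p q hpq => SheafOfModules.Hom.ext (PresheafOfModules.hom_ext fun T => ?_)⟩
  refine ModuleCat.hom_ext (LinearMap.ext fun e => ?_)
  obtain ⟨S, hS, hd⟩ := h T.unop e
  refine Groth.L15.ExtSupp.sect_ext H S hS _ _ fun V k hk => ?_
  obtain ⟨y, hy⟩ := hd k hk
  refine (Groth.L15.ExtSupp.res_natural p k e).trans (Eq.trans ?_ (Groth.L15.ExtSupp.res_natural q k e).symm)
  change p.val.app (op V) (rs F k e) = q.val.app (op V) (rs F k e)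
  rw [← hy]
  exact congr(($hpq).val.app (op V) y)

/-- Under an epimorphism out of a free module sections are locally combinations of the basic sections. -/
theorem local_span_of_epi {I : Type u} (φ : (SheafOfModules.free I : ModSite.Mod O) ⟶ F) [Epi φ]
    {U : C} (e : ModSite.sect F U) :
    ∃ S ∈ J U, ∀ ⦃V : C⦄ (k : V ⟶ U), S k → rs F k e ∈
      Submodule.span (O.obj.obj (op V)) (Set.range fun i => φ.val.app (op V) (bas O i V)) := by
  let N : PresheafOfModules.Submodule F.val :=
    { obj := fun X => Submodule.span (O.obj.obj X) (Set.range fun i => φ.val.app X (bas O i X.unop))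
      map := fun {X Y} g x hx => mem_span_map (rsₗ F g.unop) (fun y hy => by
        obtain ⟨i, rfl⟩ := hy
        refine Submodule.subset_span ⟨i, ?_⟩
        show φ.val.app Y (bas O i Y.unop) = rs F g.unop (φ.val.app X (bas O i X.unop))
        rw [← bas_res i g.unop]
        exact (Groth.L15.ExtSupp.res_natural φ g.unop _).symm) hx }
  let q : F ⟶ (ModSite.sheafify O).obj (Groth.L15.ExtSupp.presheafQuot N) :=
    ⟨Groth.L15.ExtSupp.presheafQuotπ N ≫
      (PresheafOfModules.sheafificationAdjunction (𝟙 (ModSite.ringSh O).obj)).unit.app _⟩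
  have hq : q = 0 := by
    refine (cancel_epi φ).1 ?_
    rw [comp_zero]
    refine Cofan.IsColimit.hom_ext (SheafOfModules.isColimitFreeCofan I) _ _ fun i => ?_
    show (SheafOfModules.ιFree i : ModSite.unit O ⟶ _) ≫ φ ≫ q = SheafOfModules.ιFree i ≫ 0
    rw [comp_zero]
    refine SheafOfModules.Hom.ext (PresheafOfModules.hom_ext fun T => ?_)
    refine ModuleCat.hom_ext (LinearMap.ext fun r => ?_)
    refine (unit_app_eq (SheafOfModules.ιFree i ≫ φ ≫ q) T.unop r).trans ?_
    refine Eq.trans (congrArg (sc r • ·) ?_) (smul_zero _)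
    show ((PresheafOfModules.sheafificationAdjunction (𝟙 (ModSite.ringSh O).obj)).unit.app _).app T
      ((Groth.L15.ExtSupp.presheafQuotπ N).app T (φ.val.app T (bas O i T.unop))) = 0
    rw [show (Groth.L15.ExtSupp.presheafQuotπ N).app T (φ.val.app T (bas O i T.unop)) = 0 from
      (Submodule.Quotient.mk_eq_zero _).2 (Submodule.subset_span ⟨i, rfl⟩)]
    exact map_zero _
  let P := (Groth.L15.ExtSupp.presheafQuot N).presheaf
  let z : ToType (P.obj (op U)) := (Submodule.Quotient.mk e : F.val.obj (op U) ⧸ N.obj (op U))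
  have hz : (CategoryTheory.toSheafify J P).app (op U) z = (CategoryTheory.toSheafify J P).app (op U) 0 := by
    rw [map_zero]
    exact congr(($hq).val.app (op U) e)
  refine ⟨_, Presheaf.equalizerSieve_mem J (CategoryTheory.toSheafify J P) z 0 hz, fun V k hk => ?_⟩
  have h : P.map k.op z = P.map k.op 0 := hk
  rw [map_zero] at h
  exact (Submodule.Quotient.mk_eq_zero _).1
    (show (Submodule.Quotient.mk (rs F k e) : F.val.obj (op V) ⧸ N.obj (op V)) = 0 from h)

/-- Sections of free modules are locally combinations of the basic sections. -/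
theorem local_span_free {I : Type u} {U : C} (e : ModSite.sect (SheafOfModules.free I : ModSite.Mod O) U) :
    ∃ S ∈ J U, ∀ ⦃V : C⦄ (k : V ⟶ U), S k → rs _ k e ∈
      Submodule.span (O.obj.obj (op V)) (Set.range fun i => bas O i V) :=
  local_span_of_epi (𝟙 (SheafOfModules.free I : ModSite.Mod O)) e

/-- The coordinates of a combination of basic sections are unique. -/
theorem coeff_unique {I : Type u} {U : C} (c : I →₀ O.obj.obj (op U))
    (h : Finsupp.linearCombination (O.obj.obj (op U)) (fun i => bas O i U) c = 0) : c = 0 := by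
  classical
  ext k
  let π : (SheafOfModules.free I : ModSite.Mod O) ⟶ ModSite.unit O :=
    Cofan.IsColimit.desc (SheafOfModules.isColimitFreeCofan I) (fun j => if j = k then 𝟙 _ else 0)
  have hb : ∀ i, sc (π.val.app (op U) (bas O i U)) = if i = k then 1 else 0 := fun i => by
    have hfac : (SheafOfModules.ιFree i : ModSite.unit O ⟶ SheafOfModules.free I) ≫ π =
        if i = k then 𝟙 _ else 0 := Cofan.IsColimit.fac (SheafOfModules.isColimitFreeCofan I) _ i
    refine (congr(($hfac).val.app (op U) (one' O U))).trans ?_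
    by_cases e : i = k
    · rw [if_pos e, if_pos e]; rfl
    · rw [if_neg e, if_neg e]; rfl
  let πl : ModSite.sect (SheafOfModules.free I : ModSite.Mod O) U →ₗ[O.obj.obj (op U)] O.obj.obj (op U) :=
    (π.val.app (op U)).hom
  have h' := congrArg πl h
  rw [map_zero, Finsupp.apply_linearCombination, Finsupp.linearCombination_apply, Finsupp.sum] at h'
  refine Eq.trans ?_ h'
  rw [Finset.sum_eq_single k]
  · show c k = c k * sc (π.val.app (op U) (bas O k U))
    rw [hb, if_pos rfl, mul_one]
  · intro i _ hi
    show c i * sc (π.val.app (op U) (bas O i U)) = 0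
    rw [hb, if_neg hi, mul_zero]
  · intro hk
    rw [Finsupp.notMem_support_iff.1 hk]
    exact zero_smul _ _

end Epi

end Groth.L10.SecPres

namespace Groth.L10.SecPres

open Groth.L15.FlatCrit Groth.L15.PullFlat Groth.L15.LocPres

variable {C : Type u} [SmallCategory C] {J : GrothendieckTopology C} {O : Sheaf J CommRingCat.{u}}

/-- Relations given by coefficient vectors. -/
theorem isRel_of_vec {F : ModSite.Mod O} {W : C} {I R : Type u} {s : I → ModSite.sect F W}
    (a : R → (I →₀ O.obj.obj (op W))) (h1 : ∀ j, lcs F (𝟙 W) s (a j) = 0)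
    (h2 : ∀ ⦃U : C⦄ (g : U ⟶ W) (c : I →₀ O.obj.obj (op U)), lcs F g s c = 0 →
      ∃ S ∈ J U, ∀ ⦃V : C⦄ (h : V ⟶ U), S h →
        rR O h c ∈ Submodule.span (O.obj.obj (op V)) (Set.range fun j => rR O (h ≫ g) (a j))) :
    IsRel F W s fun j => lb O W (a j) := by
  refine ⟨fun j V k c hc => ?_, fun U g c hc => ?_⟩
  · rw [rs_lb] at hc
    have e : c = rR O k (a j) := sub_eq_zero.1 (coeff_unique _ (by rw [map_sub, hc, sub_self]))
    have h := congrArg (rs F k) (h1 j)
    rw [rs_lcs, map_zero, Category.comp_id] at h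
    rw [e]
    exact h
  · obtain ⟨S, hS, hd⟩ := h2 g c hc
    refine ⟨S, hS, fun V k hk => ?_⟩
    refine mem_span_map (lb O V) (fun x hx => ?_) (hd k hk)
    obtain ⟨j, rfl⟩ := hx
    exact Submodule.subset_span ⟨j, rs_lb (k ≫ g) (a j)⟩

/-- Sections of a free module on finitely many generators are combinations of the basic sections. -/
theorem exists_vec {I : Type u} [Finite I] {U : C} (x : ModSite.sect (SheafOfModules.free I : ModSite.Mod O) U) :
    ∃ c : I →₀ O.obj.obj (op U), lb O U c = x := by
  classical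
  haveI : Fintype I := Fintype.ofFinite I
  obtain ⟨π, -, hπ⟩ := exists_coord O I
  refine ⟨Finsupp.equivFunOnFinite.symm fun k => sc ((π k).val.app (op U) x), ?_⟩
  refine Eq.trans ?_ (app_eq_sum π hπ (𝟙 _) U x).symm
  rw [Finsupp.linearCombination_apply, Finsupp.sum_fintype _ _ (fun i => zero_smul (O.obj.obj (op U)) (bas O i U))]
  exact Finset.sum_congr rfl fun k _ => rfl

/-- The relations of a finitely generated module as coefficient vectors. -/
theorem IsRel.exists_vec {F : ModSite.Mod O} {W : C} {I R : Type u} [Finite I] {s : I → ModSite.sect F W}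
    {w : R → ModSite.sect (SheafOfModules.free I : ModSite.Mod O) W} (h : IsRel F W s w) :
    ∃ a : R → (I →₀ O.obj.obj (op W)), (∀ j, lcs F (𝟙 W) s (a j) = 0) ∧
      ∀ ⦃U : C⦄ (g : U ⟶ W) (c : I →₀ O.obj.obj (op U)), lcs F g s c = 0 →
        ∃ S ∈ J U, ∀ ⦃V : C⦄ (h : V ⟶ U), S h →
          rR O h c ∈ Submodule.span (O.obj.obj (op V)) (Set.range fun j => rR O (h ≫ g) (a j)) := by
  choose a ha using fun j => Groth.L10.SecPres.exists_vec (w j)
  refine ⟨a, fun j => h.1 j (𝟙 W) (a j) ?_, fun U g c hc => ?_⟩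
  · rw [ha]
    show (ConcreteCategory.hom ((SheafOfModules.free I : ModSite.Mod O).val.presheaf.map (𝟙 (op W)))) (w j) = w j
    rw [CategoryTheory.Functor.map_id]
    rfl
  · obtain ⟨S, hS, hd⟩ := h.2 g c hc
    refine ⟨S, hS, fun V k hk => ?_⟩
    obtain ⟨d, hd'⟩ := (mem_span_iff_lcs (k ≫ g) w _).1 (hd k hk)
    have e : Finsupp.linearCombination (O.obj.obj (op V)) (fun j => rR O (k ≫ g) (a j)) d = rR O k c := by
      refine sub_eq_zero.1 (coeff_unique _ ?_)
      rw [map_sub, ← hd', Finsupp.apply_linearCombination, sub_eq_zero]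
      refine congrArg (fun v => Finsupp.linearCombination (O.obj.obj (op V)) v d) (funext fun j => ?_)
      show lb O V (rR O (k ≫ g) (a j)) = rs _ (k ≫ g) (w j)
      rw [← rs_lb, ha]
    rw [← e, ← Finsupp.range_linearCombination]
    exact ⟨d, rfl⟩

end Groth.L10.SecPres
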