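import Groth.Agent.L10.SecPres.Ops
import Mathlib.Algebra.Category.ModuleCat.Descent
import Mathlib.Algebra.Homology.ShortComplex.ExactFunctor
import Mathlib.CategoryTheory.Abelian.Exact
import Mathlib.Algebra.Homology.ShortComplex.ModuleCat

/-! Quasi-coherent modules for the chaotic topology: they are the modules all of whose base-change maps are
isomorphisms. -/

set_option autoImplicit false
set_option backward.isDefEq.respectTransparency false
set_option backward.isDefEq.respectTransparency.types false

universe u

open CategoryTheory CategoryTheory.Limits Opposite TensorProduct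

noncomputable section

namespace Groth.L10.SecPres.Chaotic

open Groth.L15.FlatCrit Groth.L15.PullFlat Groth.L15.LocPres

variable {C : Type u} [SmallCategory C] {O : Sheaf (⊥ : GrothendieckTopology C) CommRingCat.{u}}

theorem top_of_mem {X : C} {S : Sieve X} (h : S ∈ (⊥ : GrothendieckTopology C) X) {V : C} (k : V ⟶ X) :
    S k := by
  rw [GrothendieckTopology.bot_covering.1 h]
  trivial

theorem locally_bot {P : C → Prop} (h : Locally (⊥ : GrothendieckTopology C) P) (U : C) : P U := by
  obtain ⟨S, hS, hd⟩ := h U
  exact hd (𝟙 U) (top_of_mem hS _)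

theorem rs_id (F : ModSite.Mod O) {U : C} (x : ModSite.sect F U) : rs F (𝟙 U) x = x := by
  show (ConcreteCategory.hom (F.val.presheaf.map (𝟙 (op U)))) x = x
  rw [CategoryTheory.Functor.map_id]
  rfl

/-- Sections over an object, as a functor. -/
abbrev evC (O : Sheaf (⊥ : GrothendieckTopology C) CommRingCat.{u}) (U : C) :
    ModSite.Mod O ⥤ ModuleCat.{u} (O.obj.obj (op U)) :=
  SheafOfModules.evaluation (ModSite.ringSh O) (op U)

/-- The base-change map of a module along a map. -/
def BC (F : ModSite.Mod O) {U V : C} (g : U ⟶ V) :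
    (ModuleCat.extendScalars (O.obj.map g.op).hom).obj ((evC O V).obj F) ⟶ (evC O U).obj F :=
  ((ModuleCat.extendRestrictScalarsAdj (O.obj.map g.op).hom).homEquiv
    (F.val.obj (op V) : ModuleCat.{u} (O.obj.obj (op V)))
    (F.val.obj (op U) : ModuleCat.{u} (O.obj.obj (op U)))).symm (F.val.map g.op)

/-- The canonical map to the extension of scalars. -/
def η (F : ModSite.Mod O) {U V : C} (g : U ⟶ V) :
    ModSite.sect F V →ₛₗ[rr O g]
      ((ModuleCat.extendScalars (O.obj.map g.op).hom).obj ((evC O V).obj F) : Type u) where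
  toFun m := (ModuleCat.extendRestrictScalarsAdj (O.obj.map g.op).hom).unit.app ((evC O V).obj F) m
  map_add' := map_add ((ModuleCat.extendRestrictScalarsAdj (O.obj.map g.op).hom).unit.app ((evC O V).obj F)).hom
  map_smul' := map_smul ((ModuleCat.extendRestrictScalarsAdj (O.obj.map g.op).hom).unit.app ((evC O V).obj F)).hom

theorem BC_η (F : ModSite.Mod O) {U V : C} (g : U ⟶ V) (m : ModSite.sect F V) :
    BC F g (η F g m) = rs F g m := by
  have h := ((ModuleCat.extendRestrictScalarsAdj (O.obj.map g.op).hom).homEquiv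
    (F.val.obj (op V) : ModuleCat.{u} (O.obj.obj (op V)))
    (F.val.obj (op U) : ModuleCat.{u} (O.obj.obj (op U)))).apply_symm_apply (F.val.map g.op)
  rw [Adjunction.homEquiv_unit] at h
  exact congr($h m)

variable (F : ModSite.Mod O) {U V : C} (g : U ⟶ V) {I : Type u}

/-- Combinations in the extension of scalars. -/
def L (s : I → ModSite.sect F V) :
    (I →₀ O.obj.obj (op U)) →ₗ[O.obj.obj (op U)]
      ((ModuleCat.extendScalars (O.obj.map g.op).hom).obj ((evC O V).obj F) : Type u) :=
  Finsupp.linearCombination (O.obj.obj (op U)) fun i => η F g (s i)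

theorem BC_L (s : I → ModSite.sect F V) (c : I →₀ O.obj.obj (op U)) : BC F g (L F g s c) = lcs F g s c := by
  refine (Finsupp.apply_linearCombination (O.obj.obj (op U))
    ((BC F g).hom : _ →ₗ[O.obj.obj (op U)] ModSite.sect F U) (fun i => η F g (s i)) c).trans ?_
  exact congrArg (fun v => Finsupp.linearCombination (O.obj.obj (op U)) v c) (funext fun i => BC_η F g (s i))

theorem η_lcs (s : I → ModSite.sect F V) (d : I →₀ O.obj.obj (op V)) :
    η F g (lcs F (𝟙 V) s d) = L F g s (rR O g d) := by
  induction d using Finsupp.induction_linear with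
  | zero => simp only [map_zero]
  | add c d hc hd => simp only [map_add, hc, hd]
  | single i r =>
    rw [rR_single, L, Finsupp.linearCombination_single, Finsupp.linearCombination_single, map_smulₛₗ, rs_id]

theorem L_surjective (s : I → ModSite.sect F V) (hs : ∀ m, ∃ d, lcs F (𝟙 V) s d = m) :
    Function.Surjective (L F g s) := by
  let E := (ModuleCat.extendScalars (O.obj.map g.op).hom).obj ((evC O V).obj F)
  let N : Submodule (O.obj.obj (op U)) E := LinearMap.range (L F g s)
  let q : E ⟶ ModuleCat.of (O.obj.obj (op U)) (E ⧸ N) := ModuleCat.ofHom N.mkQ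
  have hq : q = 0 := by
    refine ((ModuleCat.extendRestrictScalarsAdj (O.obj.map g.op).hom).homEquiv _ _).injective ?_
    rw [Adjunction.homEquiv_unit, Adjunction.homEquiv_unit, Functor.map_zero, comp_zero]
    refine ModuleCat.hom_ext (LinearMap.ext fun m => ?_)
    show N.mkQ (η F g m) = 0
    obtain ⟨d, rfl⟩ := hs m
    exact (Submodule.Quotient.mk_eq_zero N).2 ⟨_, (η_lcs F g s d).symm⟩
  intro z
  exact (Submodule.Quotient.mk_eq_zero N).1 (show N.mkQ z = 0 from congr($hq z))

theorem exists_vec_bot (x : ModSite.sect (SheafOfModules.free I : ModSite.Mod O) U) :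
    ∃ c, lb O U c = x := by
  obtain ⟨S, hS, hd⟩ := local_span_free x
  have h := hd (𝟙 U) (top_of_mem hS _)
  rw [rs_id, ← Finsupp.range_linearCombination] at h
  exact h

/-- The base-change maps of a module with generators and relations are isomorphisms. -/
theorem bijective_of_spres (P : SPres F V) : Function.Bijective (BC F g) := by
  have hs : ∀ m, ∃ d, lcs F (𝟙 V) P.s d = m := fun m => by
    obtain ⟨S, hS, hd⟩ := P.gen (𝟙 V) m
    obtain ⟨c, hc⟩ := (mem_span_iff_lcs (𝟙 V ≫ 𝟙 V) P.s _).1 (hd (𝟙 V) (top_of_mem hS _))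
    rw [rs_id] at hc
    rw [Category.comp_id] at hc
    exact ⟨c, hc⟩
  constructor
  · refine (injective_iff_map_eq_zero' (BC F g).hom).2 fun z => ⟨fun hz => ?_, fun hz => by rw [hz, map_zero]⟩
    obtain ⟨c, rfl⟩ := L_surjective F g P.s hs z
    have hz' : lcs F g P.s c = 0 := (BC_L F g P.s c).symm.trans hz
    obtain ⟨S, hS, hd⟩ := P.isRel.2 g c hz'
    obtain ⟨e, he⟩ := (mem_span_iff_lcs (𝟙 U ≫ g) P.w _).1 (hd (𝟙 U) (top_of_mem hS _))
    rw [Category.id_comp] at he
    choose a ha using fun j => exists_vec_bot (P.w j)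
    have ha0 : ∀ j, lcs F (𝟙 V) P.s (a j) = 0 := fun j =>
      P.isRel.1 j (𝟙 V) (a j) (by rw [rs_id, ha])
    have hc : c = Finsupp.linearCombination (O.obj.obj (op U)) (fun j => rR O g (a j)) e := by
      refine Finsupp.ext fun i => ?_
      have e1 : rR O (𝟙 U) c - Finsupp.linearCombination (O.obj.obj (op U)) (fun j => rR O g (a j)) e = 0 := by
        refine coeff_unique _ ?_
        rw [map_sub, sub_eq_zero, Finsupp.apply_linearCombination, ← he]
        refine congrArg (fun v => Finsupp.linearCombination (O.obj.obj (op U)) v e) (funext fun j => ?_)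
        show rs _ g (P.w j) = lb O U (rR O g (a j))
        rw [← ha j, rs_lb]
      refine Eq.trans ?_ congr($(sub_eq_zero.1 e1) i)
      rw [rR_apply]
      show c i = (O.obj.map (𝟙 (op U))).hom (c i)
      rw [CategoryTheory.Functor.map_id]
      rfl
    rw [hc, Finsupp.apply_linearCombination]
    have h0 : ((fun x => L F g P.s x) ∘ fun j => rR O g (a j)) = 0 := funext fun j => by
      show L F g P.s (rR O g (a j)) = 0
      rw [← η_lcs, ha0, map_zero]
    rw [h0]
    simp
  · intro e
    obtain ⟨S, hS, hd⟩ := P.gen g e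
    obtain ⟨c, hc⟩ := (mem_span_iff_lcs (𝟙 U ≫ g) P.s _).1 (hd (𝟙 U) (top_of_mem hS _))
    rw [rs_id, Category.id_comp] at hc
    exact ⟨L F g P.s c, (BC_L F g P.s c).trans hc⟩

/-- Relations of a module with all base-change maps injective come from its tautological ones. -/
theorem mem_span_of_bijective {U : C} (g : U ⟶ V) (hinj : Function.Injective (BC F g))
    (c : ModSite.sect F V →₀ O.obj.obj (op U)) (hc : lcs F g id c = 0) :
    c ∈ Submodule.span (O.obj.obj (op U))
      (Set.range fun a : {a : ModSite.sect F V →₀ O.obj.obj (op V) // lcs F (𝟙 V) id a = 0} => rR O g a.1) := by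
  let N := Submodule.span (O.obj.obj (op U))
    (Set.range fun a : {a : ModSite.sect F V →₀ O.obj.obj (op V) // lcs F (𝟙 V) id a = 0} => rR O g a.1)
  have hN : ∀ a : ModSite.sect F V →₀ O.obj.obj (op V), lcs F (𝟙 V) id a = 0 → N.mkQ (rR O g a) = 0 :=
    fun a ha => (Submodule.Quotient.mk_eq_zero N).2 (Submodule.subset_span ⟨⟨a, ha⟩, rfl⟩)
  have l1 : ∀ (m : ModSite.sect F V) (r : O.obj.obj (op V)), lcs F (𝟙 V) id (Finsupp.single m r) = r • m :=
    fun m r => by rw [Finsupp.linearCombination_single, rs_id]; rfl
  let Q : ModuleCat.{u} (O.obj.obj (op U)) := ModuleCat.of _ ((ModSite.sect F V →₀ O.obj.obj (op U)) ⧸ N)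
  let ψ : (evC O V).obj F ⟶ (ModuleCat.restrictScalars (O.obj.map g.op).hom).obj Q :=
    ModuleCat.ofHom (Y := ((ModuleCat.restrictScalars (O.obj.map g.op).hom).obj Q : Type u))
    { toFun := fun m => N.mkQ (Finsupp.single m 1)
      map_add' := fun m m' => by
        have h := hN (Finsupp.single (m + m') 1 - Finsupp.single m 1 - Finsupp.single m' 1)
          (by rw [map_sub, map_sub, l1, l1, l1, one_smul, one_smul, one_smul]; simp)
        simp only [map_sub, rR_single, map_one, sub_sub, sub_eq_zero] at h
        rw [map_add (rR O g), rR_single, rR_single, map_one, map_add] at h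
        exact h
      map_smul' := fun (r : O.obj.obj (op V)) (m : ModSite.sect F V) => by
        have h := hN (Finsupp.single (r • m) 1 - r • Finsupp.single m 1)
          (by rw [map_sub, LinearMap.map_smul, l1, l1, one_smul, one_smul, sub_self])
        simp only [map_sub, LinearMap.map_smulₛₗ, rR_single, map_one, sub_eq_zero, RingHom.id_apply] at h
        exact h }
  let f := ((ModuleCat.extendRestrictScalarsAdj (O.obj.map g.op).hom).homEquiv _ Q).symm ψ
  have hf : ∀ m, f (η F g m) = N.mkQ (Finsupp.single m 1) := fun m => by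
    have h := ((ModuleCat.extendRestrictScalarsAdj (O.obj.map g.op).hom).homEquiv _ Q).apply_symm_apply ψ
    rw [Adjunction.homEquiv_unit] at h
    exact congr($h m)
  have key : ∀ d, f (L F g id d) = N.mkQ d := fun d => by
    induction d using Finsupp.induction_linear with
    | zero => simp only [map_zero]
    | add a b ha hb => simp only [map_add, ha, hb]
    | single i r =>
      rw [L, Finsupp.linearCombination_single, map_smul]
      show r • f (η F g i) = _
      rw [hf, ← map_smul, Finsupp.smul_single, smul_eq_mul, mul_one]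
  have hL : L F g id c = 0 := hinj (((BC_L F g id c).trans hc).trans (map_zero (BC F g).hom).symm)
  refine (Submodule.Quotient.mk_eq_zero N).1 ?_
  rw [← Submodule.mkQ_apply, ← key, hL, map_zero]

/-- A module is quasi-coherent for the chaotic topology iff its base-change maps are isomorphisms. -/
theorem isQuasicoherent_iff_isIso :
    SheafOfModules.IsQuasicoherent (R := ModSite.ringSh O) F ↔
      ∀ (U V : C) (g : U ⟶ V), IsIso (BC F g) := by
  rw [isQuasicoherent_iff]
  constructor
  · intro h U V g
    obtain ⟨P⟩ := locally_bot h V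
    exact (ConcreteCategory.isIso_iff_bijective _).2 (bijective_of_spres F g P)
  · intro h V
    refine ⟨⊤, GrothendieckTopology.top_mem _ V, fun W k _ => ⟨SPres.res ?_ k⟩⟩
    have hb : ∀ {U : C} (g : U ⟶ V), Function.Bijective (BC F g) := fun g =>
      (ConcreteCategory.isIso_iff_bijective _).1 (h _ V g)
    exact
      { I := ModSite.sect F V
        s := id
        gen := fun U g e => by
          refine ⟨⊤, GrothendieckTopology.top_mem _ U, fun U' k _ => ?_⟩
          obtain ⟨z, rfl⟩ := (hb g).2 e
          obtain ⟨c, rfl⟩ := L_surjective F g id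
            (fun m => ⟨Finsupp.single m 1, by rw [Finsupp.linearCombination_single, one_smul, rs_id]; rfl⟩) z
          rw [BC_L, rs_lcs]
          exact (mem_span_iff_lcs (k ≫ g) id _).2 ⟨_, rfl⟩
        R := {a : ModSite.sect F V →₀ O.obj.obj (op V) // lcs F (𝟙 V) id a = 0}
        w := fun a => lb O V a.1
        isRel := isRel_of_vec (fun a : {a : ModSite.sect F V →₀ O.obj.obj (op V) // lcs F (𝟙 V) id a = 0} => a.1)
          (fun a => a.2) fun U g c hc => by
            refine ⟨⊤, GrothendieckTopology.top_mem _ U, fun U' k _ => ?_⟩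
            refine mem_span_of_bijective F (k ≫ g) (hb _).1 _ ?_
            rw [← rs_lcs, hc, map_zero] }

section Serre

instance evC_additive (U : C) : (evC O U).Additive where
  map_add := rfl

instance evC_preservesHomology (U : C) : (evC O U).PreservesHomology := by
  refine Functor.preservesHomology_of_map_exact _ fun S hS => ?_
  rw [ShortComplex.moduleCat_exact_iff]
  intro x hx
  obtain ⟨T, hT, hd⟩ := exists_local_preimage hS x hx
  obtain ⟨y, hy⟩ := hd (𝟙 U) (top_of_mem hT _)
  exact ⟨y, hy.trans (rs_id S.X₂ x)⟩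

instance (U : C) : PreservesFiniteLimits (evC O U) := Functor.preservesFiniteLimits_of_preservesHomology _

instance (U : C) : PreservesFiniteColimits (evC O U) := Functor.preservesFiniteColimits_of_preservesHomology _

/-- The base-change maps, as a natural transformation. -/
def τ {U V : C} (g : U ⟶ V) :
    evC O V ⋙ ModuleCat.extendScalars (O.obj.map g.op).hom ⟶ evC O U where
  app F := BC F g
  naturality F G α := by
    refine ((ModuleCat.extendRestrictScalarsAdj (O.obj.map g.op).hom).homEquiv_naturality_left_symm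
      ((evC O V).map α) (G.val.map g.op : (evC O V).obj G ⟶ _)).symm.trans ?_
    refine Eq.trans ?_ ((ModuleCat.extendRestrictScalarsAdj (O.obj.map g.op).hom).homEquiv_naturality_right_symm
      (F.val.map g.op : (evC O V).obj F ⟶ _) ((evC O U).map α))
    exact congrArg _ (α.val.naturality g.op).symm

end Serre

end Groth.L10.SecPres.Chaotic

namespace Groth.L10.SecPres.Chaotic

variable {A B : Type*} [Category A] [Category B] [Abelian A] [Abelian B] {G₁ G₂ : A ⥤ B} [G₁.Additive]
  [G₂.Additive] [PreservesFiniteLimits G₁] [PreservesFiniteLimits G₂] [PreservesFiniteColimits G₁]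
  [PreservesFiniteColimits G₂] (t : G₁ ⟶ G₂)

omit [PreservesFiniteColimits G₁] [PreservesFiniteColimits G₂] in
theorem isIso_app_kernel {X Y : A} (α : X ⟶ Y) [IsIso (t.app X)] [IsIso (t.app Y)] :
    IsIso (t.app (kernel α)) := by
  let e := PreservesKernel.iso G₁ α ≪≫
    kernel.mapIso _ _ (asIso (t.app X)) (asIso (t.app Y)) (t.naturality α) ≪≫ (PreservesKernel.iso G₂ α).symm
  have h : t.app (kernel α) = e.hom := by
    rw [← cancel_mono (PreservesKernel.iso G₂ α).hom]
    refine equalizer.hom_ext ?_
    simp [e]
  rw [h]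
  infer_instance

omit [PreservesFiniteLimits G₁] [PreservesFiniteLimits G₂] in
theorem isIso_app_cokernel {X Y : A} (α : X ⟶ Y) [IsIso (t.app X)] [IsIso (t.app Y)] :
    IsIso (t.app (cokernel α)) := by
  let e := PreservesCokernel.iso G₁ α ≪≫
    cokernel.mapIso _ _ (asIso (t.app X)) (asIso (t.app Y)) (t.naturality α) ≪≫ (PreservesCokernel.iso G₂ α).symm
  have h : t.app (cokernel α) = e.hom := by
    rw [← cancel_epi (PreservesCokernel.iso G₁ α).inv]
    refine coequalizer.hom_ext ?_
    simp [e]
  rw [h]
  infer_instance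

theorem isIso_app_ext {S : ShortComplex A} (hS : S.ShortExact) [IsIso (t.app S.X₁)] [IsIso (t.app S.X₃)] :
    IsIso (t.app S.X₂) :=
  ShortComplex.isIso₂_of_shortExact_of_isIso₁₃' (S.mapNatTrans t) (hS.map_of_exact G₁) (hS.map_of_exact G₂)
    (inferInstanceAs (IsIso (t.app S.X₁))) (inferInstanceAs (IsIso (t.app S.X₃)))

end Groth.L10.SecPres.Chaotic
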