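import Groth.Agent.L10.SecPres.Slice
import Mathlib.Algebra.Category.ModuleCat.Sheaf.LocallyFree

/-! Finiteness conditions on modules in terms of local generators and relations given by sections. -/

set_option autoImplicit false
set_option backward.isDefEq.respectTransparency false
set_option backward.isDefEq.respectTransparency.types false

universe u

open CategoryTheory CategoryTheory.Limits Opposite

noncomputable section

namespace Groth.L10.SecPres

variable {C : Type u} [SmallCategory C] {J : GrothendieckTopology C} {O : Sheaf J CommRingCat.{u}}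

/-- A property holds on the members of a cover of every object. -/
def Locally (J : GrothendieckTopology C) (P : C → Prop) : Prop :=
  ∀ U : C, ∃ S ∈ J U, ∀ ⦃V : C⦄ (h : V ⟶ U), S h → P V

theorem locally_of_coversTop {I : Type u} {X : I → C} (hX : J.CoversTop X) {P : C → Prop}
    (h : ∀ i ⦃V : C⦄ (_ : V ⟶ X i), P V) : Locally J P := fun U =>
  ⟨Sieve.ofObjects X U, hX U, fun V k hk => by
    obtain ⟨i, ⟨v⟩⟩ := (Sieve.mem_ofObjects_iff ..).mp hk
    exact h i v⟩

theorem coversTop_of_locally {P : C → Prop} (h : Locally J P) :
    J.CoversTop (fun W : {W : C // P W} => W.1) := fun U => by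
  obtain ⟨S, hS, hd⟩ := h U
  exact J.superset_covering (fun V k hk => (Sieve.mem_ofObjects_iff ..).mpr ⟨⟨V, hd k hk⟩, ⟨𝟙 V⟩⟩) hS

variable {F : ModSite.Mod O}

theorem nonempty_localGeneratorsData_iff :
    Nonempty (SheafOfModules.LocalGeneratorsData.{u} (R := ModSite.ringSh O) F) ↔
      Locally J fun W => Nonempty (SGen F W) := by
  constructor
  · rintro ⟨q⟩
    exact locally_of_coversTop q.coversTop fun i V v => ⟨(sgenOf (q.generators i)).res v⟩
  · intro h
    exact ⟨SheafOfModules.LocalGeneratorsData.mk.{u, u, u, u} (R := ModSite.ringSh O) (M := F)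
      {W : C // Nonempty (SGen F W)} (fun W => W.1) (coversTop_of_locally h)
      fun W => W.2.some.generatingSections⟩

theorem isFiniteType_iff :
    SheafOfModules.IsFiniteType (R := ModSite.ringSh O) F ↔
      Locally J fun W => ∃ P : SGen F W, Finite P.I := by
  constructor
  · intro hF
    obtain ⟨q, hq⟩ := hF.exists_localGeneratorsData
    exact locally_of_coversTop q.coversTop fun i V v =>
      ⟨(sgenOf (q.generators i)).res v, (hq.isFiniteType i).finite⟩
  · intro h
    let P : ∀ W : {W : C // ∃ P : SGen F W, Finite P.I}, SGen F W.1 := fun W => W.2.choose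
    let d : SheafOfModules.LocalGeneratorsData.{u} (R := ModSite.ringSh O) F :=
      SheafOfModules.LocalGeneratorsData.mk.{u, u, u, u} (R := ModSite.ringSh O) (M := F)
        {W : C // ∃ P : SGen F W, Finite P.I} (fun W => W.1) (coversTop_of_locally h)
        fun W => (P W).generatingSections
    haveI hd : d.IsFiniteType :=
      SheafOfModules.LocalGeneratorsData.IsFiniteType.mk (p := d) fun W => ⟨W.2.choose_spec⟩
    exact SheafOfModules.IsFiniteType.mk (R := ModSite.ringSh O) (M := F) ⟨d, hd⟩

theorem isQuasicoherent_iff :
    SheafOfModules.IsQuasicoherent (R := ModSite.ringSh O) F ↔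
      Locally J fun W => Nonempty (SPres F W) := by
  constructor
  · intro hF
    obtain ⟨q⟩ := hF.nonempty_quasicoherentData
    exact locally_of_coversTop q.coversTop fun i V v => ⟨(spresOf (q.presentation i)).res v⟩
  · intro h
    exact SheafOfModules.IsQuasicoherent.mk (R := ModSite.ringSh O) (M := F)
      ⟨SheafOfModules.QuasicoherentData.mk.{u, u, u, u} (R := ModSite.ringSh O) (M := F)
        {W : C // Nonempty (SPres F W)} (fun W => W.1) (coversTop_of_locally h)
        fun W => W.2.some.presentation⟩

theorem isFinitePresentation_iff :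
    SheafOfModules.IsFinitePresentation (R := ModSite.ringSh O) F ↔
      Locally J fun W => ∃ P : SPres F W, Finite P.I ∧ Finite P.R := by
  constructor
  · intro hF
    obtain ⟨q, hq⟩ := hF.exists_quasicoherentData
    exact locally_of_coversTop q.coversTop fun i V v =>
      ⟨(spresOf (q.presentation i)).res v, (hq.isFinite_presentation i).isFiniteType_generators.finite,
        (hq.isFinite_presentation i).isFiniteType_relations.finite⟩
  · intro h
    let P : ∀ W : {W : C // ∃ P : SPres F W, Finite P.I ∧ Finite P.R}, SPres F W.1 := fun W => W.2.choose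
    let q : SheafOfModules.QuasicoherentData.{u} (R := ModSite.ringSh O) F :=
      SheafOfModules.QuasicoherentData.mk.{u, u, u, u} (R := ModSite.ringSh O) (M := F)
        {W : C // ∃ P : SPres F W, Finite P.I ∧ Finite P.R} (fun W => W.1) (coversTop_of_locally h)
        fun W => (P W).presentation
    exact SheafOfModules.IsFinitePresentation.mk (R := ModSite.ringSh O) (M := F)
      ⟨q, SheafOfModules.QuasicoherentData.IsFinitePresentation.mk (R := ModSite.ringSh O) (M := F) (q := q)
        fun W => @SPres.isFinite_presentation _ _ _ _ _ _ (P W) W.2.choose_spec.1 W.2.choose_spec.2⟩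

theorem SPres.mono_desc {W : C} (P : SPres F W) [IsEmpty P.R] : Mono (desc (G := rF W F) P.s) := by
  refine P.exact_relMap.mono_g ?_
  exact Cofan.IsColimit.hom_ext (SheafOfModules.isColimitFreeCofan P.R) _ _ fun j => isEmptyElim j

theorem isLocallyFree_iff :
    SheafOfModules.IsLocallyFree (R := ModSite.ringSh O) F ↔
      Locally J fun W => ∃ P : SPres F W, IsEmpty P.R := by
  constructor
  · intro hF
    obtain ⟨q, hq⟩ := hF.exists_isLocallyFreeData
    haveI := hq
    exact locally_of_coversTop q.coversTop fun i V v =>
      ⟨(spresOf (q.quasiCoherentData.presentation i)).res v, ⟨fun j => Empty.elim (ULift.down j)⟩⟩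
  · intro h
    let P : ∀ W : {W : C // ∃ P : SPres F W, IsEmpty P.R}, SPres F W.1 := fun W => W.2.choose
    let d : SheafOfModules.LocalGeneratorsData.{u} (R := ModSite.ringSh O) F :=
      SheafOfModules.LocalGeneratorsData.mk.{u, u, u, u} (R := ModSite.ringSh O) (M := F)
        {W : C // ∃ P : SPres F W, IsEmpty P.R} (fun W => W.1) (coversTop_of_locally h)
        fun W => (P W).toSGen.generatingSections
    have hd : ∀ W, IsIso (d.generators W).π := fun W => by
      haveI := W.2.choose_spec
      haveI : Mono (desc (G := rF W.1 F) (P W).s) := (P W).mono_desc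
      haveI : Epi (desc (G := rF W.1 F) (P W).s) := epi_desc (P W).gen
      have e : (P W).toSGen.generatingSections.π = desc (G := rF W.1 F) (P W).s := Equiv.symm_apply_apply _ _
      show IsIso (P W).toSGen.generatingSections.π
      rw [e]
      exact isIso_of_mono_of_epi _
    exact SheafOfModules.IsLocallyFree.mk (R := ModSite.ringSh O) (M := F)
      ⟨d, SheafOfModules.LocalGeneratorsData.IsLocallyFreeData.mk (R := ModSite.ringSh O) (M := F) (q := d) hd⟩

end Groth.L10.SecPres
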