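import Groth.Agent.L10.SecPres.Cover
import Groth.Agent.L15.FPFree.Basic

/-! Extensions, kernels and cokernels of modules with local generators and relations. -/

set_option autoImplicit false
set_option backward.isDefEq.respectTransparency false
set_option backward.isDefEq.respectTransparency.types false

universe u

open CategoryTheory CategoryTheory.Limits Opposite

noncomputable section

namespace Groth.L10.SecPres

open Groth.L15.FlatCrit Groth.L15.PullFlat Groth.L15.LocPres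

variable {C : Type u} [SmallCategory C] {J : GrothendieckTopology C} {O : Sheaf J CommRingCat.{u}}

theorem exists_inter' {V : C} {ι : Type*} [Finite ι] (S : ι → Sieve V) (hS : ∀ i, S i ∈ J V) :
    ∃ T ∈ J V, ∀ i, T ≤ S i := by
  classical
  haveI := Fintype.ofFinite ι
  have h : ∀ X : Finset ι, ∃ T ∈ J V, ∀ i ∈ X, T ≤ S i := fun X => by
    induction X using Finset.induction_on with
    | empty => exact ⟨⊤, J.top_mem V, fun i hi => absurd hi (Finset.notMem_empty i)⟩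
    | insert b X _ ih =>
      obtain ⟨T, hT, hle⟩ := ih
      refine ⟨S b ⊓ T, J.intersection_covering (hS b) hT, fun i hi => ?_⟩
      rcases Finset.mem_insert.1 hi with e | e
      · exact e ▸ inf_le_left
      · exact inf_le_right.trans (hle i e)
  obtain ⟨T, hT, hle⟩ := h Finset.univ
  exact ⟨T, hT, fun i => hle i (Finset.mem_univ i)⟩

theorem locally_and {P Q : C → Prop} (h : Locally J P) (h' : Locally J Q) :
    Locally J fun W => P W ∧ Q W := fun U => by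
  obtain ⟨S, hS, hd⟩ := h U
  obtain ⟨S', hS', hd'⟩ := h' U
  exact ⟨S ⊓ S', J.intersection_covering hS hS', fun V k hk => ⟨hd k hk.1, hd' k hk.2⟩⟩

theorem locally_bind {P Q : C → Prop} (h : Locally J P)
    (hPQ : ∀ W, P W → ∃ S ∈ J W, ∀ ⦃V : C⦄ (v : V ⟶ W), S v → Q V) : Locally J Q := fun U => by
  obtain ⟨S, hS, hd⟩ := h U
  exact exists_sieve_bind (fun V _ => Q V) hS fun V q hq => hPQ V (hd q hq)

theorem exists_lifts {A B : ModSite.Mod O} (p : A ⟶ B) [Epi p] {W : C} {ι : Type*} [Finite ι]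
    (x : ι → ModSite.sect B W) :
    ∃ S ∈ J W, ∀ ⦃V : C⦄ (v : V ⟶ W), S v → ∀ i, ∃ y : ModSite.sect A V, p.val.app (op V) y = rs B v (x i) := by
  choose S hS hSd using fun i => Groth.L15.FPFree.exists_local_lift p (x i)
  obtain ⟨T, hT, hle⟩ := exists_inter' S hS
  exact ⟨T, hT, fun V v hv i => hSd i v (hle i _ hv)⟩

/-- Sections killed by the second map of an exact sequence with a mono come from sections. -/
theorem exists_preimage {S : ShortComplex (ModSite.Mod O)} (hS : S.Exact) [Mono S.f] {U : C}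
    (x : ModSite.sect S.X₂ U) (hx : S.g.val.app (op U) x = 0) :
    ∃ y : ModSite.sect S.X₁ U, S.f.val.app (op U) y = x := by
  obtain ⟨w, hw⟩ := exists_kernel_sect S.g x hx
  let k := hS.lift (kernel.ι S.g) (kernel.condition S.g)
  refine ⟨k.val.app (op U) w, ?_⟩
  refine Eq.trans ?_ hw
  exact congr(($(hS.lift_f (kernel.ι S.g) (kernel.condition S.g))).val.app (op U) w)

/-- Sections killed by the second map of an exact sequence come locally from sections. -/
theorem exists_local_preimage {S : ShortComplex (ModSite.Mod O)} (hS : S.Exact) {U : C}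
    (x : ModSite.sect S.X₂ U) (hx : S.g.val.app (op U) x = 0) :
    ∃ T ∈ J U, ∀ ⦃V : C⦄ (v : V ⟶ U), T v → ∃ y : ModSite.sect S.X₁ V, S.f.val.app (op V) y = rs S.X₂ v x := by
  obtain ⟨w, hw⟩ := exists_kernel_sect S.g x hx
  haveI : Epi (kernel.lift S.g S.f S.zero) := S.exact_iff_epi_kernel_lift.1 hS
  obtain ⟨T, hT, hd⟩ := Groth.L15.FPFree.exists_local_lift (kernel.lift S.g S.f S.zero) w
  refine ⟨T, hT, fun V v hv => ?_⟩
  obtain ⟨y, hy⟩ := hd v hv
  refine ⟨y, ?_⟩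
  refine (congr(($(kernel.lift_ι S.g S.f S.zero)).val.app (op V) y)).symm.trans ?_
  refine (congrArg ((kernel.ι S.g).val.app (op V)) hy).trans ?_
  exact (Groth.L15.ExtSupp.res_natural (kernel.ι S.g) v w).symm.trans (congrArg (rs S.X₂ v) hw)

theorem mem_span_of_map {A B : ModSite.Mod O} (φ : A ⟶ B) [Mono φ] {I : Type u} {U W : C} (g : U ⟶ W)
    (v : I → ModSite.sect A W) (x : ModSite.sect A U)
    (hx : φ.val.app (op U) x ∈
      Submodule.span (O.obj.obj (op U)) (Set.range fun i => rs B g (φ.val.app (op W) (v i)))) :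
    x ∈ Submodule.span (O.obj.obj (op U)) (Set.range fun i => rs A g (v i)) := by
  obtain ⟨c, hc⟩ := (mem_span_iff_lcs g (fun i => φ.val.app (op W) (v i)) _).1 hx
  refine (mem_span_iff_lcs g v x).2 ⟨c, Groth.L15.ExtSupp.val_app_injective φ U ?_⟩
  rw [map_lcs, hc]

/-- An extension of modules of finite type is of finite type. -/
theorem isFiniteType_ext {S : ShortComplex (ModSite.Mod O)} (hS : S.ShortExact)
    (h₁ : SheafOfModules.IsFiniteType (R := ModSite.ringSh O) S.X₁)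
    (h₃ : SheafOfModules.IsFiniteType (R := ModSite.ringSh O) S.X₃) :
    SheafOfModules.IsFiniteType (R := ModSite.ringSh O) S.X₂ := by
  haveI := hS.mono_f
  haveI := hS.epi_g
  refine isFiniteType_iff.2 (locally_bind (locally_and (isFiniteType_iff.1 h₁) (isFiniteType_iff.1 h₃)) ?_)
  rintro W ⟨⟨A, hA⟩, ⟨B, hB⟩⟩
  obtain ⟨T, hT, hd⟩ := exists_lifts S.g B.s
  refine ⟨T, hT, fun V v hv => ?_⟩
  choose b hb using hd v hv
  refine ⟨{ I := A.I ⊕ B.I, s := Sum.elim (fun i => S.f.val.app (op V) (rs S.X₁ v (A.s i))) b, gen := ?_ },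
    (inferInstance : Finite (A.I ⊕ B.I))⟩
  intro U g e
  obtain ⟨T₁, hT₁, hd₁⟩ := (B.res v).gen g (S.g.val.app (op U) e)
  refine exists_sieve_bind (fun V' (h : V' ⟶ U) => rs S.X₂ h e ∈ Submodule.span (O.obj.obj (op V'))
      (Set.range fun i => rs S.X₂ (h ≫ g) (Sum.elim (fun i => S.f.val.app (op V) (rs S.X₁ v (A.s i))) b i)))
    hT₁ fun U₁ h₁' hh₁ => ?_
  obtain ⟨c, hc⟩ := (mem_span_iff_lcs (h₁' ≫ g) (fun i => rs S.X₃ v (B.s i)) _).1 (hd₁ h₁' hh₁)
  let x := rs S.X₂ h₁' e - lcs S.X₂ (h₁' ≫ g) b c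
  have hx : S.g.val.app (op U₁) x = 0 := by
    refine (map_sub (S.g.val.app (op U₁)).hom _ _).trans (sub_eq_zero.2 ?_)
    refine Eq.trans ?_ (map_lcs S.g (h₁' ≫ g) b c).symm
    rw [show (fun i => S.g.val.app (op V) (b i)) = fun i => rs S.X₃ v (B.s i) from funext hb, hc]
    exact (Groth.L15.ExtSupp.res_natural S.g h₁' e).symm
  obtain ⟨y, hy⟩ := exists_preimage hS.exact x hx
  obtain ⟨T₂, hT₂, hd₂⟩ := (A.res v).gen (h₁' ≫ g) y
  refine ⟨T₂, hT₂, fun U₂ h₂ hh₂ => ?_⟩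
  rw [← rs_rs, show rs S.X₂ h₁' e = S.f.val.app (op U₁) y + lcs S.X₂ (h₁' ≫ g) b c by
    rw [hy]; exact (sub_add_cancel _ _).symm, map_add]
  refine add_mem ?_ ?_
  · rw [show rs S.X₂ h₂ (S.f.val.app (op U₁) y) = S.f.val.app (op U₂) (rs S.X₁ h₂ y) from
      Groth.L15.ExtSupp.res_natural S.f h₂ y]
    refine mem_span_map (S.f.val.app (op U₂)).hom (fun z hz => ?_) (hd₂ h₂ hh₂)
    obtain ⟨i, rfl⟩ := hz
    refine Submodule.subset_span ⟨Sum.inl i, ?_⟩
    show rs S.X₂ ((h₂ ≫ h₁') ≫ g) (S.f.val.app (op V) (rs S.X₁ v (A.s i))) = _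
    rw [Category.assoc]
    exact Groth.L15.ExtSupp.res_natural S.f (h₂ ≫ h₁' ≫ g) _
  · rw [rs_lcs, Finsupp.linearCombination_apply, Finsupp.sum]
    refine Submodule.sum_mem _ fun i _ => Submodule.smul_mem _ _ (Submodule.subset_span ⟨Sum.inr i, ?_⟩)
    show rs S.X₂ ((h₂ ≫ h₁') ≫ g) (b i) = rs S.X₂ (h₂ ≫ h₁' ≫ g) (b i)
    rw [Category.assoc]

variable {G F : ModSite.Mod O}

theorem locally_gens_pres (hG : SheafOfModules.IsFiniteType (R := ModSite.ringSh O) G)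
    (hF : SheafOfModules.IsFinitePresentation (R := ModSite.ringSh O) F) (φ : G ⟶ F) :
    Locally J fun W => ∃ (A : SGen G W) (P : SPres F W) (d : A.I → (P.I →₀ O.obj.obj (op W))),
      Finite A.I ∧ Finite P.I ∧ Finite P.R ∧ ∀ k, lcs F (𝟙 W) P.s (d k) = φ.val.app (op W) (A.s k) := by
  refine locally_bind (locally_and (isFiniteType_iff.1 hG) (isFinitePresentation_iff.1 hF)) ?_
  rintro W ⟨⟨A, hA⟩, ⟨P, hI, hR⟩⟩
  choose S hS hSd using fun k => P.gen (𝟙 W) (φ.val.app (op W) (A.s k))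
  obtain ⟨T, hT, hle⟩ := exists_inter' S hS
  refine ⟨T, hT, fun V v hv => ?_⟩
  have h : ∀ k, ∃ d, lcs F (𝟙 V) (P.res v).s d = φ.val.app (op V) ((A.res v).s k) := fun k => by
    obtain ⟨d, hd⟩ := (mem_span_iff_lcs (v ≫ 𝟙 W) P.s _).1 (hSd k v (hle k _ hv))
    refine ⟨d, ?_⟩
    show lcs F (𝟙 V) (fun i => rs F v (P.s i)) d = _
    rw [lcs_rs, Category.id_comp]
    rw [Category.comp_id] at hd
    exact hd.trans (Groth.L15.ExtSupp.res_natural φ v (A.s k))
  choose d hd using h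
  exact ⟨A.res v, P.res v, d, hA, hI, hR, hd⟩

/-- The cokernel of a map from a module of finite type to a finitely presented module is finitely presented. -/
theorem isFinitePresentation_cokernel (hG : SheafOfModules.IsFiniteType (R := ModSite.ringSh O) G)
    (hF : SheafOfModules.IsFinitePresentation (R := ModSite.ringSh O) F) (φ : G ⟶ F) :
    SheafOfModules.IsFinitePresentation (R := ModSite.ringSh O) (cokernel φ) := by
  refine isFinitePresentation_iff.2 (locally_bind (locally_gens_pres hG hF φ) ?_)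
  rintro W ⟨A, P, d, hA, hI, hR, hd⟩
  refine ⟨⊤, J.top_mem W, fun V v _ => ?_⟩
  haveI := hI
  obtain ⟨a, ha1, ha2⟩ := IsRel.exists_vec P.isRel
  let π := cokernel.π φ
  let s : P.I → ModSite.sect (cokernel φ) W := fun i => π.val.app (op W) (P.s i)
  let v' : P.R ⊕ A.I → (P.I →₀ O.obj.obj (op W)) := Sum.elim a d
  have hgen : IsGen (cokernel φ) W s := fun U g e => by
    obtain ⟨T, hT, hl⟩ := Groth.L15.FPFree.exists_local_lift π e
    refine exists_sieve_bind (fun V (h : V ⟶ U) => rs (cokernel φ) h e ∈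
      Submodule.span (O.obj.obj (op V)) (Set.range fun i => rs (cokernel φ) (h ≫ g) (s i))) hT fun U₁ h₁ hh₁ => ?_
    obtain ⟨y, hy⟩ := hl h₁ hh₁
    obtain ⟨T', hT', hd'⟩ := P.gen (h₁ ≫ g) y
    refine ⟨T', hT', fun U₂ h₂ hh₂ => ?_⟩
    rw [← rs_rs, ← hy]
    show rs (cokernel φ) h₂ (π.val.app (op U₁) y) ∈ _
    rw [show rs (cokernel φ) h₂ (π.val.app (op U₁) y) = π.val.app (op U₂) (rs F h₂ y) from
      Groth.L15.ExtSupp.res_natural π h₂ y]
    refine mem_span_map (π.val.app (op U₂)).hom (fun z hz => ?_) (hd' h₂ hh₂)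
    obtain ⟨i, rfl⟩ := hz
    refine Submodule.subset_span ⟨i, ?_⟩
    show rs _ ((h₂ ≫ h₁) ≫ g) (π.val.app (op W) (P.s i)) = _
    rw [Category.assoc]
    exact Groth.L15.ExtSupp.res_natural π (h₂ ≫ h₁ ≫ g) _
  have hrel : IsRel (cokernel φ) W s fun j => lb O W (v' j) := by
    refine isRel_of_vec v' (fun j => ?_) fun U g c hc => ?_
    · rw [← map_lcs π]
      rcases j with j | k
      · show π.val.app (op W) (lcs F (𝟙 W) P.s (a j)) = 0
        rw [ha1]
        exact map_zero (π.val.app (op W)).hom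
      · show π.val.app (op W) (lcs F (𝟙 W) P.s (d k)) = 0
        rw [hd]
        exact congr(($(cokernel.condition φ)).val.app (op W) (A.s k))
    · rw [← map_lcs π] at hc
      obtain ⟨T, hT, hl⟩ := exists_local_preimage
        (ShortComplex.exact_cokernel φ) (lcs F g P.s c) hc
      refine exists_sieve_bind (fun V (h : V ⟶ U) => rR O h c ∈
        Submodule.span (O.obj.obj (op V)) (Set.range fun j => rR O (h ≫ g) (v' j))) hT fun U₁ h₁ hh₁ => ?_
      obtain ⟨y, hy⟩ := hl h₁ hh₁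
      obtain ⟨T₁, hT₁, hd₁⟩ := A.gen (h₁ ≫ g) y
      refine exists_sieve_bind _ hT₁ fun U₂ h₂ hh₂ => ?_
      obtain ⟨e, he⟩ := (mem_span_iff_lcs (h₂ ≫ h₁ ≫ g) A.s _).1 (hd₁ h₂ hh₂)
      let de := Finsupp.linearCombination (O.obj.obj (op U₂)) (fun k => rR O (h₂ ≫ h₁ ≫ g) (d k)) e
      have e1 : lcs F (h₂ ≫ h₁ ≫ g) P.s de = φ.val.app (op U₂) (rs G h₂ y) := by
        rw [← he, map_lcs, Finsupp.apply_linearCombination]
        refine congrArg (fun w => Finsupp.linearCombination (O.obj.obj (op U₂)) w e) (funext fun k => ?_)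
        show lcs F (h₂ ≫ h₁ ≫ g) P.s (rR O (h₂ ≫ h₁ ≫ g) (d k)) = rs F (h₂ ≫ h₁ ≫ g) (φ.val.app (op W) (A.s k))
        rw [← hd k, rs_lcs]
        simp only [Category.comp_id]
      have e2 : lcs F (h₂ ≫ h₁ ≫ g) P.s (rR O (h₂ ≫ h₁) c - de) = 0 := by
        rw [map_sub, e1, sub_eq_zero]
        refine Eq.trans ?_ (Groth.L15.ExtSupp.res_natural φ h₂ y)
        show _ = rs F h₂ (φ.val.app (op U₁) y)
        rw [show φ.val.app (op U₁) y = rs F h₁ (lcs F g P.s c) from hy, rs_rs, rs_lcs]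
        simp only [Category.assoc]
      obtain ⟨T₂, hT₂, hd₂⟩ := ha2 (h₂ ≫ h₁ ≫ g) _ e2
      refine ⟨T₂, hT₂, fun U₃ h₃ hh₃ => ?_⟩
      have e3 := hd₂ h₃ hh₃
      rw [map_sub, rR_rR] at e3
      have e4 : rR O h₃ de ∈ Submodule.span (O.obj.obj (op U₃))
          (Set.range fun j => rR O (((h₃ ≫ h₂) ≫ h₁) ≫ g) (v' j)) := by
        refine mem_span_map (rR O h₃) (fun z hz => ?_)
          (show de ∈ Submodule.span (O.obj.obj (op U₂)) (Set.range fun k => rR O (h₂ ≫ h₁ ≫ g) (d k)) from by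
            rw [← Finsupp.range_linearCombination]; exact ⟨e, rfl⟩)
        obtain ⟨k, rfl⟩ := hz
        refine Submodule.subset_span ⟨Sum.inr k, ?_⟩
        show rR O (((h₃ ≫ h₂) ≫ h₁) ≫ g) (d k) = rR O h₃ (rR O (h₂ ≫ h₁ ≫ g) (d k))
        rw [rR_rR, show h₃ ≫ h₂ ≫ h₁ ≫ g = ((h₃ ≫ h₂) ≫ h₁) ≫ g by simp only [Category.assoc]]
      have e5 : rR O (h₃ ≫ h₂ ≫ h₁) c - rR O h₃ de ∈ Submodule.span (O.obj.obj (op U₃))
          (Set.range fun j => rR O (((h₃ ≫ h₂) ≫ h₁) ≫ g) (v' j)) := by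
        refine Submodule.span_mono (fun z hz => ?_) e3
        obtain ⟨j, rfl⟩ := hz
        refine ⟨Sum.inl j, ?_⟩
        show rR O (((h₃ ≫ h₂) ≫ h₁) ≫ g) (a j) = rR O (h₃ ≫ h₂ ≫ h₁ ≫ g) (a j)
        rw [show h₃ ≫ h₂ ≫ h₁ ≫ g = ((h₃ ≫ h₂) ≫ h₁) ≫ g by simp only [Category.assoc]]
      have e6 := add_mem e5 e4
      rw [sub_add_cancel] at e6
      rw [show (h₃ ≫ h₂) ≫ h₁ = h₃ ≫ h₂ ≫ h₁ from Category.assoc _ _ _] at e6 ⊢
      exact e6
  let Q : SPres (cokernel φ) W :=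
    { toSGen := ⟨P.I, s, hgen⟩, R := P.R ⊕ A.I, w := fun j => lb O W (v' j), isRel := hrel }
  exact ⟨Q.res v, hI, inferInstanceAs (Finite (P.R ⊕ A.I))⟩

/-- The kernel of an epimorphism from a module of finite type to a finitely presented module is of
finite type. -/
theorem isFiniteType_kernel (hG : SheafOfModules.IsFiniteType (R := ModSite.ringSh O) G)
    (hF : SheafOfModules.IsFinitePresentation (R := ModSite.ringSh O) F) (θ : G ⟶ F) [Epi θ] :
    SheafOfModules.IsFiniteType (R := ModSite.ringSh O) (kernel θ) := by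
  refine isFiniteType_iff.2 (locally_bind (locally_gens_pres hG hF θ) ?_)
  rintro W ⟨A, P, d, hA, hI, hR, hd⟩
  haveI := hI
  obtain ⟨a, ha1, ha2⟩ := IsRel.exists_vec P.isRel
  obtain ⟨T, hT, hl⟩ := exists_lifts θ P.s
  refine ⟨T, hT, fun V v hv => ?_⟩
  choose t ht using hl v hv
  have htθ : (fun i => θ.val.app (op V) (t i)) = fun i => rs F v (P.s i) := funext ht
  let x : A.I ⊕ P.R → ModSite.sect G V :=
    Sum.elim (fun k => rs G v (A.s k) - lcs G (𝟙 V) t (rR O v (d k))) fun j => lcs G (𝟙 V) t (rR O v (a j))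
  have hθlcs : ∀ c, θ.val.app (op V) (lcs G (𝟙 V) t c) = lcs F v P.s c := fun c => by
    rw [map_lcs, htθ, lcs_rs, Category.id_comp]
  have hx : ∀ i, θ.val.app (op V) (x i) = 0 := by
    rintro (k | j)
    · refine (map_sub (θ.val.app (op V)).hom _ _).trans (sub_eq_zero.2 ?_)
      refine Eq.trans ?_ (hθlcs _).symm
      refine (Groth.L15.ExtSupp.res_natural θ v (A.s k)).symm.trans ?_
      show rs F v (θ.val.app (op W) (A.s k)) = _
      rw [← hd k, rs_lcs, Category.comp_id]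
    · show θ.val.app (op V) (lcs G (𝟙 V) t (rR O v (a j))) = 0
      rw [hθlcs]
      have := congrArg (rs F v) (ha1 j)
      rw [rs_lcs, map_zero, Category.comp_id] at this
      exact this
  choose κ hκ using fun i => exists_kernel_sect θ (x i) (hx i)
  refine ⟨{ I := A.I ⊕ P.R, s := κ, gen := ?_ }, (inferInstance : Finite (A.I ⊕ P.R))⟩
  intro U g z
  obtain ⟨T₁, hT₁, hd₁⟩ := A.gen (g ≫ v) ((kernel.ι θ).val.app (op U) z)
  refine exists_sieve_bind (fun V' (h : V' ⟶ U) => rs (kernel θ) h z ∈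
    Submodule.span (O.obj.obj (op V')) (Set.range fun i => rs (kernel θ) (h ≫ g) (κ i))) hT₁ fun U₁ h₁ hh₁ => ?_
  obtain ⟨e, he⟩ := (mem_span_iff_lcs (h₁ ≫ g ≫ v) A.s _).1 (hd₁ h₁ hh₁)
  let de := Finsupp.linearCombination (O.obj.obj (op U₁)) (fun k => rR O (h₁ ≫ g ≫ v) (d k)) e
  have e1 : lcs F (h₁ ≫ g ≫ v) P.s de = θ.val.app (op U₁) (rs G h₁ ((kernel.ι θ).val.app (op U) z)) := by
    rw [← he, map_lcs, Finsupp.apply_linearCombination]
    refine congrArg (fun w => Finsupp.linearCombination (O.obj.obj (op U₁)) w e) (funext fun k => ?_)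
    show lcs F (h₁ ≫ g ≫ v) P.s (rR O (h₁ ≫ g ≫ v) (d k)) = rs F (h₁ ≫ g ≫ v) (θ.val.app (op W) (A.s k))
    rw [← hd k, rs_lcs]
    simp only [Category.comp_id]
  have e2 : lcs F (h₁ ≫ g ≫ v) P.s de = 0 := by
    rw [e1]
    refine (Groth.L15.ExtSupp.res_natural θ h₁ _).symm.trans ?_
    refine (congrArg (rs F h₁) ?_).trans (map_zero _)
    exact congr(($(kernel.condition θ)).val.app (op U) z)
  obtain ⟨T₂, hT₂, hd₂⟩ := ha2 (h₁ ≫ g ≫ v) de e2
  refine ⟨T₂, hT₂, fun U₂ h₂ hh₂ => ?_⟩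
  refine mem_span_of_map (kernel.ι θ) ((h₂ ≫ h₁) ≫ g) κ _ ?_
  rw [show (fun i => rs G ((h₂ ≫ h₁) ≫ g) ((kernel.ι θ).val.app (op V) (κ i))) =
    fun i => rs G ((h₂ ≫ h₁) ≫ g) (x i) from funext fun i => by rw [hκ]]
  rw [show (kernel.ι θ).val.app (op U₂) (rs (kernel θ) (h₂ ≫ h₁) z) =
    rs G h₂ (rs G h₁ ((kernel.ι θ).val.app (op U) z)) from by
      rw [rs_rs]; exact (Groth.L15.ExtSupp.res_natural (kernel.ι θ) (h₂ ≫ h₁) z).symm, ← he]
  let SP := Submodule.span (O.obj.obj (op U₂)) (Set.range fun i => rs G ((h₂ ≫ h₁) ≫ g) (x i))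
  let L : (P.I →₀ O.obj.obj (op U₂)) →ₗ[O.obj.obj (op U₂)] ModSite.sect G U₂ := lcs G ((h₂ ≫ h₁) ≫ g) t
  have e3 : L (rR O h₂ de) ∈ SP := by
    refine mem_span_map L (fun y hy => ?_) (hd₂ h₂ hh₂)
    obtain ⟨j, rfl⟩ := hy
    refine Submodule.subset_span ⟨Sum.inr j, ?_⟩
    show rs G ((h₂ ≫ h₁) ≫ g) (lcs G (𝟙 V) t (rR O v (a j))) = L (rR O (h₂ ≫ h₁ ≫ g ≫ v) (a j))
    rw [rs_lcs, rR_rR, Category.comp_id,
      show ((h₂ ≫ h₁) ≫ g) ≫ v = h₂ ≫ h₁ ≫ g ≫ v by simp only [Category.assoc]]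
  show rs G h₂ (lcs G (h₁ ≫ g ≫ v) A.s e) ∈ SP
  have e4 : rs G h₂ (lcs G (h₁ ≫ g ≫ v) A.s e) - L (rR O h₂ de) ∈ SP := by
    have key : ∀ c : A.I →₀ O.obj.obj (op U₁), rs G h₂ (lcs G (h₁ ≫ g ≫ v) A.s c) -
        L (rR O h₂ (Finsupp.linearCombination (O.obj.obj (op U₁)) (fun k => rR O (h₁ ≫ g ≫ v) (d k)) c)) ∈ SP := by
      intro c
      induction c using Finsupp.induction_linear with
      | zero => simp only [map_zero, sub_zero]; exact zero_mem _
      | add c₁ c₂ hc₁ hc₂ =>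
        simp only [map_add, add_sub_add_comm]
        exact add_mem hc₁ hc₂
      | single k r =>
        rw [Finsupp.linearCombination_single, Finsupp.linearCombination_single, rs_smul, map_smulₛₗ, map_smul,
          ← smul_sub]
        refine Submodule.smul_mem _ _ (Submodule.subset_span ⟨Sum.inl k, ?_⟩)
        show rs G ((h₂ ≫ h₁) ≫ g) (rs G v (A.s k) - lcs G (𝟙 V) t (rR O v (d k))) = _
        rw [map_sub, rs_rs, rs_rs, rs_lcs, rR_rR, rR_rR, Category.comp_id,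
          show ((h₂ ≫ h₁) ≫ g) ≫ v = h₂ ≫ h₁ ≫ g ≫ v by simp only [Category.assoc]]
    exact key e
  have e5 := add_mem e4 e3
  rwa [sub_add_cancel] at e5

end Groth.L10.SecPres
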