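import Groth.Agent.L10.SecPres.Cover
import Groth.Agent.L15.PullFlat.TensorNat
import Groth.Agent.L15.PullFlat.Flat

/-! Inverse images preserve generators and relations given by sections. -/

set_option autoImplicit false
set_option backward.isDefEq.respectTransparency false
set_option backward.isDefEq.respectTransparency.types false

universe u

open CategoryTheory CategoryTheory.Limits Opposite

noncomputable section

namespace Groth.L10.SecPres

open Groth.L15.FlatCrit Groth.L15.PullFlat Groth.L15.LocPres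

variable {C D : Type u} [SmallCategory C] [SmallCategory D] {J : GrothendieckTopology C}
  {K : GrothendieckTopology D} {O_C : Sheaf J CommRingCat.{u}} {O_D : Sheaf K CommRingCat.{u}}
  (f : ModSite.RMor O_C O_D)

/-- The map on functions attached to a map to the image of an object. -/
abbrev rho0 {U : C} (a : Pt f.fn U) : O_D.obj.obj (op a.1) →+* O_C.obj.obj (op U) :=
  (rr O_C a.2).comp (sr f a.1)

/-- The image of coefficient vectors. -/
def γ {I : Type u} {U : C} (a : Pt f.fn U) :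
    (I →₀ O_D.obj.obj (op a.1)) →ₛₗ[rho0 f a] (I →₀ O_C.obj.obj (op U)) where
  toFun c := Finsupp.mapRange (rho0 f a) (map_zero _) c
  map_add' c d := Finsupp.mapRange_add (map_add _) c d
  map_smul' r c := Finsupp.ext fun i => by simp

theorem γ_single {I : Type u} {U : C} (a : Pt f.fn U) (i : I) (r : O_D.obj.obj (op a.1)) :
    γ f a (Finsupp.single i r) = Finsupp.single i (rho0 f a r) :=
  Finsupp.mapRange_single (hf := map_zero _)

/-- The basic sections of an inverse image, as a semilinear map. -/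
def betaₗ (F : ModSite.Mod O_D) {U : C} (a : Pt f.fn U) :
    ModSite.sect F a.1 →ₛₗ[rho0 f a] ModSite.sect (f.pull.obj F) U where
  toFun m := beta f F a m
  map_add' m m' := by simp [beta]
  map_smul' x m := by
    show beta f F a (x • m) = rr O_C a.2 (sr f a.1 x) • beta f F a m
    simp [beta, etaM_smul, rs_smul]

/-- The comparison of free modules. -/
def Φ (I : Type u) :
    (SheafOfModules.free I : ModSite.Mod O_D) ⟶ f.push.obj (SheafOfModules.free I : ModSite.Mod O_C) :=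
  Cofan.IsColimit.desc (SheafOfModules.isColimitFreeCofan I) fun i =>
    (f.push.obj (SheafOfModules.free I : ModSite.Mod O_C)).unitHomEquiv.symm
      (PresheafOfModules.sectionsMk (fun V => bas O_C i (f.fn.obj V.unop))
        fun V V' h => bas_res (O := O_C) i (f.fn.map h.unop))

theorem Φ_bas {I : Type u} (i : I) (V : D) :
    (Φ f I).val.app (op V) (bas O_D i V) = bas O_C i (f.fn.obj V) := by
  have hfac : (SheafOfModules.ιFree i : ModSite.unit O_D ⟶ SheafOfModules.free I) ≫ Φ f I = _ :=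
    Cofan.IsColimit.fac (SheafOfModules.isColimitFreeCofan I) _ i
  refine (congr(($hfac).val.app (op V) (one' O_D V))).trans ?_
  exact congrArg (fun v : (f.push.obj (SheafOfModules.free I : ModSite.Mod O_C)).sections => v.val (op V))
    ((f.push.obj (SheafOfModules.free I : ModSite.Mod O_C)).unitHomEquiv.apply_symm_apply
      (PresheafOfModules.sectionsMk (fun V => bas O_C i (f.fn.obj V.unop))
        fun V V' h => bas_res (O := O_C) i (f.fn.map h.unop)))

/-- The image of a section of a free module. -/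
def φw {I : Type u} {U : C} (a : Pt f.fn U) :
    ModSite.sect (SheafOfModules.free I : ModSite.Mod O_D) a.1 →ₛₗ[rho0 f a]
      ModSite.sect (SheafOfModules.free I : ModSite.Mod O_C) U where
  toFun z := rs (SheafOfModules.free I : ModSite.Mod O_C) a.2 ((Φ f I).val.app (op a.1) z)
  map_add' z z' := by
    refine (congrArg (rs (SheafOfModules.free I : ModSite.Mod O_C) a.2)
      (map_add ((Φ f I).val.app (op a.1)).hom z z')).trans ?_
    exact map_add (rs (SheafOfModules.free I : ModSite.Mod O_C) a.2) _ _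
  map_smul' x z := by
    refine (congrArg (rs (SheafOfModules.free I : ModSite.Mod O_C) a.2)
      (map_smul ((Φ f I).val.app (op a.1)).hom x z)).trans ?_
    exact rs_smul (SheafOfModules.free I : ModSite.Mod O_C) a.2 (sr f a.1 x) _

theorem φw_move {I : Type u} {U U' : C} (q : U' ⟶ U) (a : Pt f.fn U) (a' : Pt f.fn U') (k : a'.1 ⟶ a.1)
    (e : a'.2 ≫ f.fn.map k = q ≫ a.2) (z : ModSite.sect (SheafOfModules.free I : ModSite.Mod O_D) a.1) :
    rs _ q (φw f a z) = φw f a' (rs _ k z) := by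
  show rs _ q (rs _ a.2 ((Φ f I).val.app (op a.1) z)) = rs _ a'.2 ((Φ f I).val.app (op a'.1) (rs _ k z))
  rw [rs_rs, ← e, ← rs_rs]
  exact congrArg (rs _ a'.2) (Groth.L15.ExtSupp.res_natural (Φ f I) k z)

theorem φw_lb {I : Type u} {U : C} (a : Pt f.fn U) (d : I →₀ O_D.obj.obj (op a.1)) :
    φw f a (lb O_D a.1 d) = lb O_C U (γ f a d) := by
  induction d using Finsupp.induction_linear with
  | zero => simp only [map_zero]
  | add c d hc hd => simp only [map_add, hc, hd]
  | single i r =>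
    rw [γ_single, Finsupp.linearCombination_single, Finsupp.linearCombination_single, map_smulₛₗ]
    refine congrArg (rho0 f a r • ·) ?_
    show rs _ a.2 ((Φ f I).val.app (op a.1) (bas O_D i a.1)) = bas O_C i U
    rw [Φ_bas, bas_res]

variable {F : ModSite.Mod O_D} {W₀ : D} {U₀ : C} (g₀ : U₀ ⟶ f.fn.obj W₀)

/-- The transported generators. -/
abbrev gensAt {I : Type u} (s : I → ModSite.sect F W₀) : I → ModSite.sect (f.pull.obj F) U₀ :=
  fun i => beta f F ⟨W₀, g₀⟩ (s i)

theorem gensAt_move {I : Type u} (s : I → ModSite.sect F W₀) {U : C} (q : U ⟶ U₀) (a : Pt f.fn U)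
    (k : a.1 ⟶ W₀) (e : a.2 ≫ f.fn.map k = q ≫ g₀) (i : I) :
    rs (f.pull.obj F) q (gensAt f g₀ s i) = betaₗ f F a (rs F k (s i)) :=
  beta_move f F q ⟨W₀, g₀⟩ (s i) a.2 k e

theorem lcs_γ {I : Type u} (s : I → ModSite.sect F W₀) {U : C} (q : U ⟶ U₀) (a : Pt f.fn U)
    (k : a.1 ⟶ W₀) (e : a.2 ≫ f.fn.map k = q ≫ g₀) (d : I →₀ O_D.obj.obj (op a.1)) :
    lcs (f.pull.obj F) q (gensAt f g₀ s) (γ f a d) = betaₗ f F a (lcs F k s d) := by
  induction d using Finsupp.induction_linear with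
  | zero => simp only [map_zero]
  | add c d hc hd => simp only [map_add, hc, hd]
  | single i r =>
    rw [γ_single, Finsupp.linearCombination_single, Finsupp.linearCombination_single, map_smulₛₗ,
      gensAt_move f g₀ s q a k e i]

theorem exists_inter {E : Type u} [SmallCategory E] {L : GrothendieckTopology E} {V : E} {ι : Type*} [Finite ι]
    (S : ι → Sieve V) (hS : ∀ i, S i ∈ L V) : ∃ T ∈ L V, ∀ i, T ≤ S i := by
  classical
  haveI := Fintype.ofFinite ι
  have h : ∀ X : Finset ι, ∃ T ∈ L V, ∀ i ∈ X, T ≤ S i := fun X => by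
    induction X using Finset.induction_on with
    | empty => exact ⟨⊤, L.top_mem V, fun i hi => absurd hi (Finset.notMem_empty i)⟩
    | insert b X _ ih =>
      obtain ⟨T, hT, hle⟩ := ih
      refine ⟨S b ⊓ T, L.intersection_covering (hS b) hT, fun i hi => ?_⟩
      rcases Finset.mem_insert.1 hi with e | e
      · exact e ▸ inf_le_left
      · exact inf_le_right.trans (hle i e)
  obtain ⟨T, hT, hle⟩ := h Finset.univ
  exact ⟨T, hT, fun i => hle i (Finset.mem_univ i)⟩

/-- Inverse images of generators generate. -/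
theorem isGen_pull {I : Type u} {s : I → ModSite.sect F W₀} (hs : IsGen F W₀ s) :
    IsGen (f.pull.obj F) U₀ (gensAt f g₀ s) := by
  classical
  haveI : PreservesFiniteLimits (Groth.L10.SiteFr.pullT (J := J) K f.fn) := f.exact
  intro U h e
  obtain ⟨S₁, hS₁, hS₁d⟩ := exists_local_sum f F e
  refine exists_sieve_bind
    (fun V (q : V ⟶ U) => rs (f.pull.obj F) q e ∈ Submodule.span (O_C.obj.obj (op V))
      (Set.range fun i => rs (f.pull.obj F) (q ≫ h) (gensAt f g₀ s i))) hS₁ fun U₁ q₁ hq₁ => ?_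
  obtain ⟨z, hz⟩ := hS₁d q₁ hq₁
  obtain ⟨S₂, hS₂, hS₂d⟩ := exists_cone (J := J) K (u := f.fn) U₁
    (insert ⟨W₀, q₁ ≫ h ≫ g₀⟩ (z.support.image fun x => x.1))
  refine exists_sieve_bind _ hS₂ fun U₂ q₂ hq₂ => ?_
  obtain ⟨V₂, g₂, k, hk⟩ := hS₂d q₂ hq₂
  let k₀ : V₂ ⟶ W₀ := k ⟨W₀, q₁ ≫ h ≫ g₀⟩ (Finset.mem_insert_self _ _)
  let m : z.support → ModSite.sect F V₂ := fun x =>
    rs F (k x.1.1 (Finset.mem_insert_of_mem (Finset.mem_image_of_mem _ x.2))) x.1.2
  choose S hS hSd using fun x => hs k₀ (m x)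
  obtain ⟨T, hT, hTle⟩ := exists_inter S hS
  obtain ⟨R, hR, hRd⟩ := cover_preserve (J := J) (u := f.fn) hT g₂
  refine ⟨R, hR, fun U₃ q₃ hq₃ => ?_⟩
  obtain ⟨W, l, g₃, hl, hg₃⟩ := hRd q₃ hq₃
  rw [← rs_rs, ← rs_rs, hz, lc, Finsupp.linearCombination_apply, Finsupp.sum, map_sum, map_sum]
  refine Submodule.sum_mem _ fun x hx => ?_
  rw [rs_smul, rs_smul]
  refine Submodule.smul_mem _ _ ?_
  have e1 : rs (f.pull.obj F) q₃ (rs (f.pull.obj F) q₂ (beta f F x.1 x.2)) =
      betaₗ f F (⟨W, g₃⟩ : Pt f.fn U₃) (rs F l (m ⟨x, hx⟩)) := by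
    rw [beta_move f F q₂ x.1 x.2 g₂ _ (hk _ (Finset.mem_insert_of_mem (Finset.mem_image_of_mem _ hx))),
      beta_move f F q₃ ⟨V₂, g₂⟩ _ g₃ l hg₃]
    rfl
  rw [e1]
  refine mem_span_map (betaₗ f F (⟨W, g₃⟩ : Pt f.fn U₃)) (fun y hy => ?_) (hSd ⟨x, hx⟩ l (hTle _ _ hl))
  obtain ⟨i, rfl⟩ := hy
  refine Submodule.subset_span ⟨i, ?_⟩
  refine gensAt_move f g₀ s (((q₃ ≫ q₂) ≫ q₁) ≫ h) ⟨W, g₃⟩ (l ≫ k₀) ?_ i
  rw [Functor.map_comp, ← Category.assoc, hg₃, Category.assoc,
    hk ⟨W₀, q₁ ≫ h ≫ g₀⟩ (Finset.mem_insert_self _ _)]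
  simp only [Category.assoc]

/-- Inverse images of relations generate the relations. -/
theorem isRel_pull {I R : Type u} {s : I → ModSite.sect F W₀}
    {w : R → ModSite.sect (SheafOfModules.free I : ModSite.Mod O_D) W₀}
    (hs : IsGen F W₀ s) (hw : IsRel F W₀ s w) :
    IsRel (f.pull.obj F) U₀ (gensAt f g₀ s) fun j => φw f (⟨W₀, g₀⟩ : Pt f.fn U₀) (w j) := by
  classical
  haveI : PreservesFiniteLimits (Groth.L10.SiteFr.pullT (J := J) K f.fn) := f.exact
  refine ⟨fun j U h c hc => ?_, fun U h c hc => ?_⟩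
  · obtain ⟨S, hS, hSd⟩ := local_span_free (O := O_D) (w j)
    obtain ⟨R', hR', hRd⟩ := cover_preserve (J := J) (u := f.fn) hS (h ≫ g₀)
    refine Groth.L15.ExtSupp.sect_ext (f.pull.obj F) R' hR' _ 0 fun U₁ q hq => ?_
    refine Eq.trans ?_ (map_zero (rs (f.pull.obj F) q)).symm
    show rs (f.pull.obj F) q _ = 0
    obtain ⟨W, l, g, hl, hg⟩ := hRd q hq
    obtain ⟨d, hd⟩ := Finsupp.mem_span_range_iff_exists_finsupp.1 (hSd l hl)
    have hd' : lb O_D W d = rs _ l (w j) := (Finsupp.linearCombination_apply _ d).trans hd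
    have e : rR O_C q c = γ f (⟨W, g⟩ : Pt f.fn U₁) d := by
      refine sub_eq_zero.1 (coeff_unique _ ?_)
      rw [map_sub, ← φw_lb, hd', ← rs_lb, ← hc, rs_rs,
        φw_move f (q ≫ h) ⟨W₀, g₀⟩ ⟨W, g⟩ l (by rw [hg, Category.assoc]), sub_self]
    rw [rs_lcs, e, lcs_γ f g₀ s (q ≫ h) ⟨W, g⟩ l (by rw [hg, Category.assoc]) d,
      hw.1 j l d hd'.symm, map_zero]
  · have h0 : ∑ x : c.support, c x.1 • beta f F ⟨W₀, h ≫ g₀⟩ (s x.1) = 0 := by
      refine Eq.trans ?_ hc
      rw [Finsupp.linearCombination_apply, Finsupp.sum, ← c.support.sum_coe_sort]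
      exact Finset.sum_congr rfl fun x _ => congrArg (c x.1 • ·) (rs_rs _ g₀ h _).symm
    obtain ⟨S₁, hS₁, hS₁d⟩ := exists_local_zero f F ⟨W₀, h ≫ g₀⟩ (fun x : c.support => s x.1) _ h0
    refine exists_sieve_bind (fun V (q : V ⟶ U) => lb O_C V (rR O_C q c) ∈ Submodule.span (O_C.obj.obj (op V))
      (Set.range fun j => rs _ (q ≫ h) (φw f (⟨W₀, g₀⟩ : Pt f.fn U₀) (w j)))) hS₁ fun U₁ q hq => ?_
    obtain ⟨V, g, k, n, p, t', idx, r, y, hk, hrel, ht', hy⟩ := hS₁d q hq
    choose Sj hSj hSjd using fun j => hs k (t' j)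
    obtain ⟨T₁, hT₁, hT₁le⟩ := exists_inter Sj hSj
    let spW : ∀ ⦃W : D⦄ (_ : W ⟶ V), Submodule (O_D.obj.obj (op W))
        (ModSite.sect (SheafOfModules.free I : ModSite.Mod O_D) W) := fun W l =>
      Submodule.span (O_D.obj.obj (op W)) (Set.range fun j => rs _ (l ≫ k) (w j))
    obtain ⟨T₂, hT₂, hT₂d⟩ := exists_sieve_bind (fun W (l : W ⟶ V) =>
        ∃ b : Fin n → (I →₀ O_D.obj.obj (op W)),
          (∀ l', lb O_D W (∑ j, rr O_D l (r l' j) • b j) ∈ spW l) ∧
          ∀ x : c.support, lb O_D W (Finsupp.single x.1 1 - b (idx x)) ∈ spW l) hT₁ (fun W₁ l₁ hl₁ => by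
      choose b hb using fun j => (mem_span_iff_lcs (l₁ ≫ k) s _).1 (hSjd j l₁ (hT₁le j _ hl₁))
      have k1 : ∀ l', lcs F (l₁ ≫ k) s (∑ j, rr O_D l₁ (r l' j) • b j) = 0 := fun l' => by
        rw [map_sum]
        refine Eq.trans ?_ ((congrArg (rs F l₁) (hrel l')).trans (map_zero _))
        rw [map_sum]
        exact Finset.sum_congr rfl fun j _ => by rw [map_smul, hb, rs_smul]
      have k2 : ∀ x : c.support, lcs F (l₁ ≫ k) s (Finsupp.single x.1 1 - b (idx x)) = 0 := fun x => by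
        rw [map_sub, Finsupp.linearCombination_single, one_smul, hb, ht', rs_rs, sub_self]
      choose A hA hAd using fun l' => hw.2 (l₁ ≫ k) _ (k1 l')
      choose B hB hBd using fun x => hw.2 (l₁ ≫ k) _ (k2 x)
      obtain ⟨T, hT, hTle⟩ := exists_inter (Sum.elim A B) (Sum.forall.2 ⟨hA, hB⟩)
      refine ⟨T, hT, fun W l₂ hl₂ => ⟨fun j => rR O_D l₂ (b j), fun l' => ?_, fun x => ?_⟩⟩
      · have h1 := hAd l' l₂ (hTle (Sum.inl l') _ hl₂)
        rw [map_sum] at h1
        simp only [map_smulₛₗ, rr_rr] at h1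
        show _ ∈ Submodule.span _ (Set.range fun j => rs _ ((l₂ ≫ l₁) ≫ k) (w j))
        rw [Category.assoc]
        exact h1
      · have h1 := hBd x l₂ (hTle (Sum.inr x) _ hl₂)
        rw [map_sub, rR_single, map_one] at h1
        show _ ∈ Submodule.span _ (Set.range fun j => rs _ ((l₂ ≫ l₁) ≫ k) (w j))
        rw [Category.assoc]
        exact h1)
    obtain ⟨R', hR', hRd⟩ := cover_preserve (J := J) (u := f.fn) hT₂ g
    refine ⟨R', hR', fun U₂ q₂ hq₂ => ?_⟩
    obtain ⟨W, l, g₂, hl, hg₂⟩ := hRd q₂ hq₂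
    obtain ⟨b, hb1, hb2⟩ := hT₂d l hl
    let a : Pt f.fn U₂ := ⟨W, g₂⟩
    have hsp : ∀ {z : ModSite.sect (SheafOfModules.free I : ModSite.Mod O_D) W}, z ∈ spW l →
        φw f a z ∈ Submodule.span (O_C.obj.obj (op U₂))
          (Set.range fun j => rs _ ((q₂ ≫ q) ≫ h) (φw f (⟨W₀, g₀⟩ : Pt f.fn U₀) (w j))) := fun {z} hz => by
      refine mem_span_map (φw f a) (fun x hx => ?_) hz
      obtain ⟨j, rfl⟩ := hx
      refine Submodule.subset_span ⟨j, φw_move f _ ⟨W₀, g₀⟩ a (l ≫ k) ?_ (w j)⟩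
      show g₂ ≫ f.fn.map (l ≫ k) = _
      rw [Functor.map_comp, ← Category.assoc, hg₂, Category.assoc, hk]
      simp only [Category.assoc]
    let cx : c.support → O_C.obj.obj (op U₂) := fun x => rr O_C (q₂ ≫ q) (c x.1)
    have e1 : ∀ j, (∑ x, if idx x = j then cx x else 0) =
        ∑ l', rr O_C q₂ (y l') * rho0 f a (rr O_D l (r l' j)) := fun j => by
      have h1 := congrArg (rr O_C q₂) (hy j)
      simp only [map_sum, apply_ite (rr O_C q₂), map_zero, rr_rr, map_mul] at h1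
      refine h1.trans (Finset.sum_congr rfl fun l' _ => ?_)
      rw [mul_comm]
      congr 1
      show _ = rr O_C g₂ (sr f W (rr O_D l (r l' j)))
      rw [sr_natural', hg₂]
    have ec : rR O_C (q₂ ≫ q) c =
        (∑ x, cx x • γ f a (Finsupp.single x.1 1 - b (idx x))) +
          ∑ l', rr O_C q₂ (y l') • γ f a (∑ j, rr O_D l (r l' j) • b j) := by
      have e3 : rR O_C (q₂ ≫ q) c = ∑ x : c.support, cx x • Finsupp.single x.1 1 := by
        conv_lhs => rw [← Finsupp.sum_single c, Finsupp.sum, ← c.support.sum_coe_sort]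
        rw [map_sum]
        exact Finset.sum_congr rfl fun x _ => by rw [rR_single, Finsupp.smul_single, smul_eq_mul, mul_one]
      have e4 : ∑ x, cx x • γ f a (b (idx x)) =
          ∑ l', rr O_C q₂ (y l') • γ f a (∑ j, rr O_D l (r l' j) • b j) := by
        have e5 : ∑ x, cx x • γ f a (b (idx x)) = ∑ j, (∑ x, if idx x = j then cx x else 0) • γ f a (b j) := by
          simp only [Finset.sum_smul, ite_smul, zero_smul]
          rw [Finset.sum_comm]
          exact Finset.sum_congr rfl fun x _ => by simp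
        rw [e5]
        simp only [e1, map_sum, map_smulₛₗ, Finset.smul_sum, smul_smul, Finset.sum_smul]
        exact Finset.sum_comm
      simp only [map_sub, γ_single, map_one, smul_sub, Finset.sum_sub_distrib]
      rw [e3, e4, sub_add_cancel]
      exact Finset.sum_congr rfl fun x _ => by rw [γ_single, map_one]
    show lb O_C U₂ (rR O_C (q₂ ≫ q) c) ∈ _
    rw [ec, map_add, map_sum, map_sum]
    refine add_mem (Submodule.sum_mem _ fun x _ => ?_) (Submodule.sum_mem _ fun l' _ => ?_)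
    · rw [map_smul, ← φw_lb]
      exact Submodule.smul_mem _ _ (hsp (hb2 x))
    · rw [map_smul, ← φw_lb]
      exact Submodule.smul_mem _ _ (hsp (hb1 l'))

/-- Transport of generators. -/
def SGen.pull (P : SGen F W₀) : SGen (f.pull.obj F) U₀ where
  I := P.I
  s := gensAt f g₀ P.s
  gen := isGen_pull f g₀ P.gen

/-- Transport of generators and relations. -/
def SPres.pull (P : SPres F W₀) : SPres (f.pull.obj F) U₀ where
  toSGen := P.toSGen.pull f g₀
  R := P.R
  w j := φw f (⟨W₀, g₀⟩ : Pt f.fn U₀) (P.w j)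
  isRel := isRel_pull f g₀ P.gen P.isRel

omit g₀ in
theorem locally_pull {P : D → Prop} {Q : C → Prop} (h : Locally K P)
    (hQ : ∀ {W : D} {U : C} (_ : U ⟶ f.fn.obj W), P W → Q U) : Locally J Q := by
  haveI : PreservesFiniteLimits (Groth.L10.SiteFr.pullT (J := J) K f.fn) := f.exact
  intro U
  obtain ⟨S, hS, hd⟩ := exists_point (J := J) K f.fn U
  refine exists_sieve_bind (fun V _ => Q V) hS fun U₁ q hq => ?_
  obtain ⟨V, ⟨g⟩⟩ := hd q hq
  obtain ⟨T, hT, hTd⟩ := h V
  obtain ⟨R, hR, hRd⟩ := cover_preserve (J := J) (u := f.fn) hT g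
  refine ⟨R, hR, fun U₂ r hr => ?_⟩
  obtain ⟨W, l, g₂, hl, -⟩ := hRd r hr
  exact hQ g₂ (hTd l hl)

end Groth.L10.SecPres
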