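import Groth.Agent.L10.SecPres.Basic

/-! Generators and relations in terms of sections and presentations on slices. -/

set_option autoImplicit false
set_option backward.isDefEq.respectTransparency false
set_option backward.isDefEq.respectTransparency.types false

universe u

open CategoryTheory CategoryTheory.Limits Opposite

noncomputable section

namespace Groth.L10.SecPres

open Groth.L15.FlatCrit Groth.L15.PullFlat Groth.L15.LocPres

variable {C : Type u} [SmallCategory C] {J : GrothendieckTopology C} {O : Sheaf J CommRingCat.{u}}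
  {W : C}

/-- The restriction to a slice. -/
abbrev rF (W : C) (F : ModSite.Mod O) : ModSite.Mod (O.over W) := (ModSite.restr O W).obj F

theorem exists_slice_sieve {T : Over W} {S : Sieve T} (hS : S ∈ (J.over W) T) :
    ∃ S' ∈ J T.left, ∀ ⦃V : C⦄ (h : V ⟶ T.left), S' h → S (Over.homMk h : Over.mk (h ≫ T.hom) ⟶ T) := by
  rw [J.mem_over_iff] at hS
  exact ⟨_, hS, fun V h hh => by rwa [Sieve.overEquiv_iff] at hh⟩

theorem exists_slice_cover {T : Over W} {S : Sieve T.left} (hS : S ∈ J T.left) :
    ∃ S' ∈ (J.over W) T, ∀ ⦃T' : Over W⦄ (h : T' ⟶ T), S' h → S h.left := by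
  refine ⟨(Sieve.overEquiv T).symm S, J.overEquiv_symm_mem_over T S hS, fun T' h hh => ?_⟩
  exact (Sieve.overEquiv_symm_iff S h).1 hh

/-- The map out of a free module on a slice with given values. -/
def desc {I : Type u} {G : ModSite.Mod (O.over W)} (s : I → ModSite.sect G (topObj W)) :
    (SheafOfModules.free I : ModSite.Mod (O.over W)) ⟶ G :=
  Cofan.IsColimit.desc (SheafOfModules.isColimitFreeCofan I) fun i => ofTop (s i)

theorem desc_bas {I : Type u} {F : ModSite.Mod O} (s : I → ModSite.sect F W) (i : I) (T : Over W) :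
    (desc (G := rF W F) s).val.app (op T) (bas (O.over W) i T) = rs F T.hom (s i) := by
  have hfac : (SheafOfModules.ιFree i : ModSite.unit (O.over W) ⟶ SheafOfModules.free I) ≫
      desc (G := rF W F) s = ofTop (M := rF W F) (s i) :=
    Cofan.IsColimit.fac (SheafOfModules.isColimitFreeCofan I) _ i
  let r : T ⟶ topObj W := Over.homMk T.hom
  have h0 : (ofTop (M := rF W F) (s i)).val.app (op (topObj W)) (one' (O.over W) (topObj W)) = s i :=
    evTop_ofTop (M := rF W F) (s i)
  refine (congr(($hfac).val.app (op T) (one' (O.over W) T))).trans ?_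
  refine Eq.trans ?_ (congrArg (rs F T.hom) h0)
  refine Eq.trans ?_ (Groth.L15.ExtSupp.res_natural (ofTop (M := rF W F) (s i)) r (one' (O.over W) (topObj W))).symm
  exact congrArg ((ofTop (M := rF W F) (s i)).val.app (op T)) (map_one (rr (O.over W) r)).symm

theorem desc_lb {I : Type u} {F : ModSite.Mod O} (s : I → ModSite.sect F W) (T : Over W)
    (c : I →₀ O.obj.obj (op T.left)) :
    (desc (G := rF W F) s).val.app (op T) (lb (O.over W) T c) = lcs F T.hom s c := by
  refine (Finsupp.apply_linearCombination (O.obj.obj (op T.left))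
    ((desc (G := rF W F) s).val.app (op T)).hom (fun i => bas (O.over W) i T) c).trans ?_
  exact congrArg (fun v => Finsupp.linearCombination (O.obj.obj (op T.left)) v c) (funext fun i => desc_bas s i T)

theorem epi_desc {I : Type u} {F : ModSite.Mod O} {s : I → ModSite.sect F W} (h : IsGen F W s) :
    Epi (desc (G := rF W F) s) := by
  refine epi_of_locally_image _ fun T e => ?_
  obtain ⟨S, hS, hd⟩ := h T.hom e
  obtain ⟨S', hS', hS'd⟩ := exists_slice_cover hS
  refine ⟨S', hS', fun T' k hk => ?_⟩
  obtain ⟨c, hc⟩ := (mem_span_iff_lcs (k.left ≫ T.hom) s _).1 (hd k.left (hS'd k hk))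
  refine ⟨lb (O.over W) T' c, ?_⟩
  rw [desc_lb, ← Over.w k]
  exact hc

/-- Sections generating on a slice generate over the object. -/
theorem isGen_of_epi {I : Type u} {F : ModSite.Mod O}
    (φ : (SheafOfModules.free I : ModSite.Mod (O.over W)) ⟶ rF W F) [Epi φ] :
    IsGen F W fun i => φ.val.app (op (topObj W)) (bas (O.over W) i (topObj W)) := by
  intro U g e
  obtain ⟨S, hS, hd⟩ := local_span_of_epi φ (U := Over.mk g) e
  obtain ⟨S', hS', hS'd⟩ := exists_slice_sieve (T := Over.mk g) hS
  refine ⟨S', hS', fun V h hh => ?_⟩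
  have := hd _ (hS'd h hh)
  have ev : (fun i => rs F (h ≫ g) (φ.val.app (op (topObj W)) (bas (O.over W) i (topObj W)))) =
      fun i => φ.val.app (op (Over.mk (h ≫ g))) (bas (O.over W) i (Over.mk (h ≫ g))) := funext fun i => by
    let r : Over.mk (h ≫ g) ⟶ topObj W := Over.homMk (h ≫ g)
    refine Eq.trans (Groth.L15.ExtSupp.res_natural φ r (bas (O.over W) i (topObj W))) ?_
    exact congrArg (φ.val.app (op (Over.mk (h ≫ g)))) (bas_res i r)
  show _ ∈ Submodule.span (O.obj.obj (op V)) (Set.range fun i =>
    rs F (h ≫ g) (φ.val.app (op (topObj W)) (bas (O.over W) i (topObj W))))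
  rw [ev]
  exact this

/-- The comparison of free modules on a slice with restrictions of free modules. -/
def θ (W : C) (I : Type u) :
    (SheafOfModules.free I : ModSite.Mod (O.over W)) ⟶ rF W (SheafOfModules.free I) :=
  desc fun i => bas O i W

theorem θ_lb (I : Type u) (T : Over W) (c : I →₀ O.obj.obj (op T.left)) :
    (θ W I).val.app (op T) (lb (O.over W) T c) = lb O T.left c := by
  refine (desc_lb _ T c).trans ?_
  exact congrArg (fun v => Finsupp.linearCombination (O.obj.obj (op T.left)) v c)
    (funext fun i => bas_res i T.hom)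

instance isIso_θ (W : C) (I : Type u) : IsIso (θ (O := O) W I) := by
  haveI : Mono (θ (O := O) W I) := by
    refine ⟨fun {M} p q hpq => SheafOfModules.Hom.ext (PresheafOfModules.hom_ext fun T => ?_)⟩
    refine ModuleCat.hom_ext (LinearMap.ext fun z => ?_)
    rw [← sub_eq_zero]
    let x : ModSite.sect (SheafOfModules.free I : ModSite.Mod (O.over W)) T.unop := p.val.app T z - q.val.app T z
    show x = 0
    have hx : (θ W I).val.app T x = 0 :=
      (map_sub ((θ W I).val.app T).hom _ _).trans (sub_eq_zero.2 congr(($hpq).val.app T z))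
    obtain ⟨S, hS, hd⟩ := local_span_free (O := O.over W) x
    refine Groth.L15.ExtSupp.sect_ext _ S hS x 0 fun T' k hk => ?_
    refine Eq.trans ?_ (map_zero (rs _ k)).symm
    show rs _ k x = 0
    obtain ⟨c, hc⟩ := Finsupp.mem_span_range_iff_exists_finsupp.1 (hd k hk)
    have hc' : lb (O.over W) T' c = rs _ k x := (Finsupp.linearCombination_apply _ c).trans hc
    have h0 : lb O T'.left c = 0 := by
      rw [← θ_lb, hc']
      exact (Groth.L15.ExtSupp.res_natural (θ W I) k x).symm.trans
        ((congrArg (rs _ k) hx).trans (map_zero _))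
    have hc0 : c = 0 := coeff_unique (O := O) (U := T'.left) c h0
    rw [← hc', hc0, map_zero]
  haveI : Epi (θ (O := O) W I) := epi_desc (fun U g e => by
    obtain ⟨S, hS, hd⟩ := local_span_free e
    refine ⟨S, hS, fun V h hh => ?_⟩
    convert hd h hh using 3
    exact funext fun i => bas_res i (h ≫ g))
  exact isIso_of_mono_of_epi _

variable {F : ModSite.Mod O}

/-- Generators over an object give generating sections on the slice. -/
def SGen.generatingSections (P : SGen F W) : (rF W F).GeneratingSections where
  I := P.I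
  s := (rF W F).freeHomEquiv (desc P.s)
  epi := by
    rw [Equiv.symm_apply_apply]
    exact epi_desc P.gen

/-- Generating sections on a slice give generators over the object. -/
def sgenOf (σ : (rF W F).GeneratingSections) : SGen F W where
  I := σ.I
  s i := σ.π.val.app (op (topObj W)) (bas (O.over W) i (topObj W))
  gen := isGen_of_epi σ.π

theorem desc_sgenOf (σ : (rF W F).GeneratingSections) : desc (G := rF W F) (sgenOf σ).s = σ.π := by
  refine Cofan.IsColimit.hom_ext (SheafOfModules.isColimitFreeCofan σ.I) _ _ fun i => evTop_injective ?_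
  refine Eq.trans ?_ (rfl : (sgenOf σ).s i = _)
  refine (desc_bas (F := F) (sgenOf σ).s i (topObj W)).trans ?_
  show rs F (𝟙 W) _ = _
  simp [rs]

/-- The map of free modules on the slice given by relations. -/
def SPres.relMap (P : SPres F W) :
    (SheafOfModules.free P.R : ModSite.Mod (O.over W)) ⟶ SheafOfModules.free P.I :=
  desc (G := rF W (SheafOfModules.free P.I)) P.w ≫ inv (θ W P.I)

theorem SPres.relMap_desc (P : SPres F W) : P.relMap ≫ desc (G := rF W F) P.s = 0 := by
  refine Cofan.IsColimit.hom_ext (SheafOfModules.isColimitFreeCofan P.R) _ _ fun j => evTop_injective ?_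
  let t := topObj W
  let y := P.relMap.val.app (op t) (bas (O.over W) j t)
  show (desc (G := rF W F) P.s).val.app (op t) y = 0
  have hy : (θ W P.I).val.app (op t) y = P.w j := by
    have e : P.relMap ≫ θ W P.I = desc (G := rF W (SheafOfModules.free P.I)) P.w := by simp [SPres.relMap]
    refine (congr(($e).val.app (op t) (bas (O.over W) j t))).trans ((desc_bas P.w j t).trans ?_)
    show rs _ (𝟙 W) _ = _
    simp [rs]
  obtain ⟨S, hS, hd⟩ := local_span_free (O := O.over W) y
  refine Groth.L15.ExtSupp.sect_ext (rF W F) S hS _ 0 fun T' k hk => ?_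
  refine Eq.trans ?_ (map_zero (rs (rF W F) k)).symm
  obtain ⟨c, hc⟩ := Finsupp.mem_span_range_iff_exists_finsupp.1 (hd k hk)
  have hc' : lb (O.over W) T' c = rs _ k y := (Finsupp.linearCombination_apply _ c).trans hc
  refine (Groth.L15.ExtSupp.res_natural _ k y).trans ?_
  show (desc (G := rF W F) P.s).val.app (op T') (rs _ k y) = 0
  rw [← hc', desc_lb]
  refine P.isRel.1 j T'.hom c ?_
  have e1 : (θ W P.I).val.app (op T') (rs _ k y) = rs _ k.left (P.w j) :=
    (Groth.L15.ExtSupp.res_natural (θ W P.I) k y).symm.trans (congrArg (rs (rF W _) k) hy)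
  have hk' : k.left = T'.hom := (Category.comp_id _).symm.trans (Over.w k)
  rw [← hc', θ_lb] at e1
  rw [← hk']
  exact e1.symm

set_option maxHeartbeats 1000000 in
theorem SPres.exact_relMap (P : SPres F W) :
    (ShortComplex.mk P.relMap (desc (G := rF W F) P.s) P.relMap_desc).Exact := by
  let φ := desc (G := rF W F) P.s
  rw [ShortComplex.exact_iff_epi_kernel_lift]
  show Epi (kernel.lift φ P.relMap P.relMap_desc)
  refine epi_of_locally_image _ fun T x => ?_
  let y := (kernel.ι φ).val.app (op T) x
  obtain ⟨S, hS, hd⟩ := local_span_free (O := O.over W) y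
  have key : ∀ ⦃T' : Over W⦄ (k : T' ⟶ T), S k → ∃ S' ∈ (J.over W) T', ∀ ⦃T'' : Over W⦄ (l : T'' ⟶ T'), S' l →
      ∃ z : ModSite.sect (SheafOfModules.free P.R : ModSite.Mod (O.over W)) T'',
        (kernel.lift φ P.relMap P.relMap_desc).val.app (op T'') z = rs (kernel φ) (l ≫ k) x := by
    intro T' k hk
    obtain ⟨c, hc⟩ := Finsupp.mem_span_range_iff_exists_finsupp.1 (hd k hk)
    have hc' : lb (O.over W) T' c = rs _ k y := (Finsupp.linearCombination_apply _ c).trans hc
    have h0 : lcs F T'.hom P.s c = 0 := by
      rw [← desc_lb, hc']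
      refine (Groth.L15.ExtSupp.res_natural φ k y).symm.trans ((congrArg (rs (rF W F) k) ?_).trans (map_zero (rs (rF W F) k)))
      exact congr(($(kernel.condition φ)).val.app (op T) x)
    obtain ⟨S₁, hS₁, hd₁⟩ := P.isRel.2 T'.hom c h0
    obtain ⟨S₂, hS₂, hd₂⟩ := exists_slice_cover (T := T') hS₁
    refine ⟨S₂, hS₂, fun T'' l hl => ?_⟩
    obtain ⟨d, hd'⟩ := (mem_span_iff_lcs (l.left ≫ T'.hom) P.w _).1 (hd₁ l.left (hd₂ l hl))
    refine ⟨lb (O.over W) T'' d, ?_⟩
    refine Groth.L15.ExtSupp.val_app_injective (kernel.ι φ) T'' ?_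
    refine (congr(($(kernel.lift_ι φ P.relMap P.relMap_desc)).val.app (op T'') (lb (O.over W) T'' d))).trans ?_
    refine Groth.L15.ExtSupp.val_app_injective (θ W P.I) T'' ?_
    have e : P.relMap ≫ θ W P.I = desc (G := rF W (SheafOfModules.free P.I)) P.w := by simp [SPres.relMap]
    refine (congr(($e).val.app (op T'') (lb (O.over W) T'' d))).trans ((desc_lb P.w T'' d).trans ?_)
    rw [← Over.w l]
    refine hd'.trans ?_
    have e2 : rs _ (l ≫ k) y = lb (O.over W) T'' (rR O l.left c) := by
      rw [← rs_rs, ← hc']
      exact rs_lb (O := O.over W) l c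
    refine Eq.trans ?_ (congrArg ((θ W P.I).val.app (op T''))
      (Groth.L15.ExtSupp.res_natural (kernel.ι φ) (l ≫ k) x))
    exact ((congrArg ((θ W P.I).val.app (op T'')) e2).trans (θ_lb P.I T'' _)).symm
  exact exists_sieve_bind _ hS key

/-- Generators and relations over an object give a presentation on the slice. -/
def SPres.presentation (P : SPres F W) : (rF W F).Presentation :=
  haveI : Epi (desc (G := rF W F) P.s) := epi_desc P.gen
  SheafOfModules.presentationOfIsCokernelFree P.relMap (desc (G := rF W F) P.s) P.relMap_desc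
    P.exact_relMap.gIsCokernel

theorem SPres.isFinite_presentation (P : SPres F W) [Finite P.I] [Finite P.R] : P.presentation.IsFinite where
  isFiniteType_generators := ⟨inferInstanceAs (Finite P.I)⟩
  isFiniteType_relations := ⟨inferInstanceAs (Finite P.R)⟩

set_option maxHeartbeats 1000000 in
/-- A presentation on a slice gives generators and relations over the object. -/
def spresOf (P : (rF W F).Presentation) : SPres F W where
  toSGen := sgenOf P.generators
  R := P.relations.I
  w j := (θ W P.generators.I).val.app (op (topObj W))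
    ((P.relations.π ≫ kernel.ι P.generators.π).val.app (op (topObj W)) (bas (O.over W) j (topObj W)))
  isRel := by
    let φ := P.generators.π
    let q := P.relations.π ≫ kernel.ι φ
    let Θ := θ (O := O) W P.generators.I
    have hbas : ∀ (j : P.relations.I) ⦃V : C⦄ (h : V ⟶ W),
        Θ.val.app (op (Over.mk h)) (q.val.app (op (Over.mk h)) (bas (O.over W) j (Over.mk h))) =
          rs _ h (Θ.val.app (op (topObj W)) (q.val.app (op (topObj W)) (bas (O.over W) j (topObj W)))) := by
      intro j V h
      let r : Over.mk h ⟶ topObj W := Over.homMk h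
      refine Eq.trans ?_ (Groth.L15.ExtSupp.res_natural Θ r _).symm
      refine congrArg (Θ.val.app (op (Over.mk h))) ?_
      exact ((Groth.L15.ExtSupp.res_natural q r _).trans (congrArg _ (bas_res j r))).symm
    have hφ : ∀ (T : Over W) (c : P.generators.I →₀ O.obj.obj (op T.left)),
        lcs F T.hom (sgenOf P.generators).s c = φ.val.app (op T) (lb (O.over W) T c) := fun T c =>
      (desc_lb (sgenOf P.generators).s T c).symm.trans
        (congr(($(desc_sgenOf P.generators)).val.app (op T) (lb (O.over W) T c)))
    refine ⟨fun j V h c hc => ?_, fun U g c hc => ?_⟩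
    · refine (hφ (Over.mk h) c).trans ?_
      have e : lb (O.over W) (Over.mk h) c = q.val.app (op (Over.mk h)) (bas (O.over W) j (Over.mk h)) :=
        Groth.L15.ExtSupp.val_app_injective Θ (Over.mk h)
          (((θ_lb _ (Over.mk h) c).trans hc.symm).trans (hbas j h).symm)
      refine (congrArg (φ.val.app (op (Over.mk h))) e).trans ?_
      have h0 : q ≫ φ = 0 := by simp [q]
      exact congr(($h0).val.app (op (Over.mk h)) (bas (O.over W) j (Over.mk h)))
    · let T : Over W := Over.mk g
      have h0 : φ.val.app (op T) (lb (O.over W) T c) = 0 := (hφ T c).symm.trans hc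
      obtain ⟨x, hx⟩ := exists_kernel_sect φ _ h0
      obtain ⟨S, hS, hd⟩ := local_span_of_epi P.relations.π (U := T) x
      obtain ⟨S', hS', hS'd⟩ := exists_slice_sieve (T := T) hS
      refine ⟨S', hS', fun V h hh => ?_⟩
      let k : Over.mk (h ≫ g) ⟶ T := Over.homMk h
      let T' : Over W := Over.mk (h ≫ g)
      let L : ModSite.sect (kernel φ) T' →ₗ[O.obj.obj (op V)]
          ModSite.sect (SheafOfModules.free P.generators.I : ModSite.Mod O) V :=
        ((kernel.ι φ ≫ Θ).val.app (op T')).hom
      have e : L (rs (kernel φ) k x) = lb O V (rR O h c) := by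
        refine Eq.trans (congrArg (Θ.val.app (op T')) ?_) (θ_lb _ T' (rR O h c))
        refine (Groth.L15.ExtSupp.res_natural (kernel.ι φ) k x).symm.trans ?_
        exact (congrArg (rs _ k) hx).trans (rs_lb (O := O.over W) k c)
      rw [← e]
      refine mem_span_map L (fun y hy => ?_) (hd k (hS'd h hh))
      obtain ⟨j, rfl⟩ := hy
      exact Submodule.subset_span ⟨j, (hbas j (h ≫ g)).symm⟩

end Groth.L10.SecPres
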