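import Groth.Agent.L10.SecPres.Ops
import Groth.Agent.L15.LocPres.TensorHom
import Mathlib.LinearAlgebra.DirectSum.Finsupp
import Mathlib.LinearAlgebra.TensorProduct.RightExactness

/-! Generators and relations of a tensor product of modules on a ringed site. -/

set_option autoImplicit false
set_option backward.isDefEq.respectTransparency false
set_option backward.isDefEq.respectTransparency.types false

universe u

open CategoryTheory CategoryTheory.Limits Opposite
open TensorProduct (tmul)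
open scoped TensorProduct

noncomputable section

namespace Groth.L10.SecPres

open Groth.L15.FlatCrit Groth.L15.PullFlat Groth.L15.LocPres

variable {C : Type u} [SmallCategory C] {J : GrothendieckTopology C} {O : Sheaf J CommRingCat.{u}}
  {A B : ModSite.Mod O} {W : C} {I K : Type u}

theorem rs_tmulS {V U : C} (g : U ⟶ V) (x : ModSite.sect A V) (y : ModSite.sect B V) :
    rs (ten A B) g (tmulS A B V x y) = tmulS A B U (rs A g x) (rs B g y) :=
  (unitA_res A B g (x ⊗ₜ[O.obj.obj (op V)] y)).trans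
    (congrArg (unitA A B U) (resT_tmul A B g x y))

/-- The tensor products of two families of sections. -/
abbrev tsec (s : I → ModSite.sect A W) (t : K → ModSite.sect B W) : I × K → ModSite.sect (ten A B) W :=
  fun p => tmulS A B W (s p.1) (t p.2)

variable (s : I → ModSite.sect A W) (t : K → ModSite.sect B W)

/-- Combinations of tensors. -/
abbrev zT {U : C} (g : U ⟶ W) : (I × K →₀ O.obj.obj (op U)) →ₗ[O.obj.obj (op U)] TP A B U :=
  Finsupp.linearCombination (O.obj.obj (op U)) fun p => rs A g (s p.1) ⊗ₜ rs B g (t p.2)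

theorem unitA_zT {U : C} (g : U ⟶ W) (c : I × K →₀ O.obj.obj (op U)) :
    unitA A B U (zT s t g c) = lcs (ten A B) g (tsec s t) c := by
  induction c using Finsupp.induction_linear with
  | zero => simp only [map_zero]
  | add c d hc hd => simp only [map_add, hc, hd]
  | single p r =>
    rw [Finsupp.linearCombination_single, Finsupp.linearCombination_single, unitA_smul, rs_tmulS]
    try rfl

theorem resT_zT {U U' : C} (g : U ⟶ W) (k : U' ⟶ U) (c : I × K →₀ O.obj.obj (op U)) :
    resT A B k (zT s t g c) = zT s t (k ≫ g) (rR O k c) := by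
  induction c using Finsupp.induction_linear with
  | zero => simp only [map_zero]
  | add c d hc hd => simp only [map_add, hc, hd]
  | single p r =>
    rw [rR_single, Finsupp.linearCombination_single, Finsupp.linearCombination_single,
      TensorProduct.smul_tmul', TensorProduct.smul_tmul', resT_tmul, rs_smul, rs_rs, rs_rs]

variable (I K O) in
/-- The vector of products of two vectors. -/
def pr (U : C) : (I →₀ O.obj.obj (op U)) →ₗ[O.obj.obj (op U)] (K →₀ O.obj.obj (op U)) →ₗ[O.obj.obj (op U)]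
    (I × K →₀ O.obj.obj (op U)) :=
  LinearMap.compr₂ (TensorProduct.mk (O.obj.obj (op U)) (I →₀ O.obj.obj (op U)) (K →₀ O.obj.obj (op U)))
    (finsuppTensorFinsupp' (O.obj.obj (op U)) I K).toLinearMap

theorem pr_single {U : C} (i : I) (j : K) (a b : O.obj.obj (op U)) :
    pr O I K U (Finsupp.single i a) (Finsupp.single j b) = Finsupp.single (i, j) (a * b) :=
  finsuppTensorFinsupp'_single_tmul_single (R := O.obj.obj (op U)) (ι := I) (κ := K) i j a b

theorem rR_pr {U U' : C} (k : U' ⟶ U) (x : I →₀ O.obj.obj (op U)) (y : K →₀ O.obj.obj (op U)) :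
    rR O k (pr O I K U x y) = pr O I K U' (rR O k x) (rR O k y) := by
  induction x using Finsupp.induction_linear with
  | zero => simp only [map_zero, LinearMap.zero_apply]
  | add x x' hx hx' => simp only [map_add, LinearMap.add_apply, hx, hx']
  | single i a =>
    induction y using Finsupp.induction_linear with
    | zero => simp only [map_zero]
    | add y y' hy hy' => simp only [map_add, hy, hy']
    | single j b => simp only [rR_single, pr_single, map_mul]

theorem lcs_pr {U : C} (g : U ⟶ W) (x : I →₀ O.obj.obj (op U)) (y : K →₀ O.obj.obj (op U)) :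
    lcs (ten A B) g (tsec s t) (pr O I K U x y) = tmulS A B U (lcs A g s x) (lcs B g t y) := by
  induction x using Finsupp.induction_linear with
  | zero =>
    rw [map_zero, LinearMap.zero_apply, map_zero, map_zero, tmulS_eq, TensorProduct.zero_tmul, map_zero]
  | add x x' hx hx' => rw [map_add, LinearMap.add_apply, map_add, map_add, hx, hx', tmulS_add_left]
  | single i a =>
    induction y using Finsupp.induction_linear with
    | zero => rw [map_zero, map_zero, map_zero, tmulS_eq, TensorProduct.tmul_zero, map_zero]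
    | add y y' hy hy' => rw [map_add, map_add, map_add, hy, hy', tmulS_add_right]
    | single j b =>
      rw [pr_single, Finsupp.linearCombination_single, Finsupp.linearCombination_single,
        Finsupp.linearCombination_single, tmulS_smul_left, rs_tmulS, mul_smul]
      refine congrArg (a • ·) ?_
      rw [tmulS_eq, tmulS_eq, TensorProduct.tmul_smul]
      exact (unitA_smul A B b _).symm

variable {s t}

theorem isGen_tensor (hs : IsGen A W s) (ht : IsGen B W t) : IsGen (ten A B) W (tsec s t) := by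
  intro U g e
  obtain ⟨S, hS, hd⟩ := exists_unitA_lifts A B (fun _ : Fin 1 => e)
  refine exists_sieve_bind (fun V (h : V ⟶ U) => rs (ten A B) h e ∈ Submodule.span (O.obj.obj (op V))
    (Set.range fun p => rs (ten A B) (h ≫ g) (tsec s t p))) hS fun U₁ h₁ hh₁ => ?_
  obtain ⟨z, hz⟩ := hd h₁ hh₁
  obtain ⟨n, x, y, hxy⟩ := TensorProduct.exists_sum_tmul_eq (z 0)
  choose S₁ hS₁ hd₁ using fun k => hs (h₁ ≫ g) (x k)
  choose S₂ hS₂ hd₂ using fun k => ht (h₁ ≫ g) (y k)
  obtain ⟨T, hT, hle⟩ := exists_inter' (fun k => S₁ k ⊓ S₂ k) fun k => J.intersection_covering (hS₁ k) (hS₂ k)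
  refine ⟨T, hT, fun U₂ h₂ hh₂ => ?_⟩
  rw [← rs_rs, ← hz 0, hxy, map_sum, map_sum]
  refine Submodule.sum_mem _ fun k _ => ?_
  obtain ⟨a, ha⟩ := (mem_span_iff_lcs (h₂ ≫ h₁ ≫ g) s _).1 (hd₁ k h₂ (hle k _ hh₂).1)
  obtain ⟨b, hb⟩ := (mem_span_iff_lcs (h₂ ≫ h₁ ≫ g) t _).1 (hd₂ k h₂ (hle k _ hh₂).2)
  refine (mem_span_iff_lcs ((h₂ ≫ h₁) ≫ g) (tsec s t) _).2 ⟨pr O I K U₂ a b, ?_⟩
  rw [Category.assoc, lcs_pr, ha, hb]
  exact (rs_tmulS h₂ (x k) (y k)).symm

variable (O I) in
/-- The reindexing of a free module along a column. -/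
abbrev colL (j : K) : (SheafOfModules.free I : ModSite.Mod O) ⟶ SheafOfModules.free (I × K) :=
  SheafOfModules.freeMap fun i => (i, j)

variable (O K) in
/-- The reindexing of a free module along a row. -/
abbrev colR (i : I) : (SheafOfModules.free K : ModSite.Mod O) ⟶ SheafOfModules.free (I × K) :=
  SheafOfModules.freeMap fun j => (i, j)

theorem freeMap_bas {I' : Type u} (f : I → I') (i : I) (U : C) :
    (SheafOfModules.freeMap f : (SheafOfModules.free I : ModSite.Mod O) ⟶ SheafOfModules.free I').val.app (op U)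
      (bas O i U) = bas O (f i) U :=
  congr(($(SheafOfModules.ιFree_freeMap (R := ModSite.ringSh O) f i)).val.app (op U) (one' O U))

theorem freeMap_lb {I' : Type u} (f : I → I') {U : C} (x : I →₀ O.obj.obj (op U)) :
    (SheafOfModules.freeMap f : (SheafOfModules.free I : ModSite.Mod O) ⟶ SheafOfModules.free I').val.app (op U)
      (lb O U x) = lb O U (Finsupp.mapDomain f x) := by
  refine (Finsupp.apply_linearCombination (O.obj.obj (op U))
    (((SheafOfModules.freeMap f : (SheafOfModules.free I : ModSite.Mod O) ⟶ SheafOfModules.free I').val.app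
      (op U)).hom : ModSite.sect (SheafOfModules.free I : ModSite.Mod O) U →ₗ[O.obj.obj (op U)]
        ModSite.sect (SheafOfModules.free I' : ModSite.Mod O) U) (fun i => bas O i U) x).trans ?_
  rw [Finsupp.linearCombination_mapDomain]
  exact congrArg (fun v => Finsupp.linearCombination (O.obj.obj (op U)) v x)
    (funext fun i => freeMap_bas f i U)

theorem pr_single_right {U : C} (x : I →₀ O.obj.obj (op U)) (j : K) (b : O.obj.obj (op U)) :
    pr O I K U x (Finsupp.single j b) = b • Finsupp.mapDomain (fun i => (i, j)) x := by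
  induction x using Finsupp.induction_linear with
  | zero => simp only [map_zero, LinearMap.zero_apply, Finsupp.mapDomain_zero, smul_zero]
  | add x x' hx hx' => simp only [map_add, LinearMap.add_apply, Finsupp.mapDomain_add, smul_add, hx, hx']
  | single i a => rw [pr_single, Finsupp.mapDomain_single, Finsupp.smul_single, smul_eq_mul, mul_comm]

theorem pr_single_left {U : C} (y : K →₀ O.obj.obj (op U)) (i : I) (a : O.obj.obj (op U)) :
    pr O I K U (Finsupp.single i a) y = a • Finsupp.mapDomain (fun j => (i, j)) y := by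
  induction y using Finsupp.induction_linear with
  | zero => simp only [map_zero, Finsupp.mapDomain_zero, smul_zero]
  | add y y' hy hy' => simp only [map_add, Finsupp.mapDomain_add, smul_add, hy, hy']
  | single j b => rw [pr_single, Finsupp.mapDomain_single, Finsupp.smul_single, smul_eq_mul]

variable {R S : Type u} (w : R → ModSite.sect (SheafOfModules.free I : ModSite.Mod O) W)
  (v : S → ModSite.sect (SheafOfModules.free K : ModSite.Mod O) W)

/-- The relations of a tensor product. -/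
def trel : R × K ⊕ I × S → ModSite.sect (SheafOfModules.free (I × K) : ModSite.Mod O) W :=
  Sum.elim (fun p => (colL O I p.2).val.app (op W) (w p.1)) fun p => (colR O K p.1).val.app (op W) (v p.2)

theorem pr_mem_left {U : C} (g : U ⟶ W) {x : I →₀ O.obj.obj (op U)} (y : K →₀ O.obj.obj (op U))
    (hx : lb O U x ∈ Submodule.span (O.obj.obj (op U)) (Set.range fun r => rs _ g (w r))) :
    lb O U (pr O I K U x y) ∈ Submodule.span (O.obj.obj (op U)) (Set.range fun r => rs _ g (trel w v r)) := by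
  induction y using Finsupp.induction_linear with
  | zero => rw [map_zero, map_zero]; exact zero_mem _
  | add y y' hy hy' => rw [map_add, map_add]; exact add_mem hy hy'
  | single j b =>
    rw [pr_single_right, LinearMap.map_smul, ← freeMap_lb]
    refine Submodule.smul_mem _ _ (mem_span_map ((colL O I j).val.app (op U)).hom (fun z hz => ?_) hx)
    obtain ⟨r, rfl⟩ := hz
    exact Submodule.subset_span ⟨Sum.inl (r, j), Groth.L15.ExtSupp.res_natural (colL O I j) g (w r)⟩

theorem pr_mem_right {U : C} (g : U ⟶ W) (x : I →₀ O.obj.obj (op U)) {y : K →₀ O.obj.obj (op U)}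
    (hy : lb O U y ∈ Submodule.span (O.obj.obj (op U)) (Set.range fun r => rs _ g (v r))) :
    lb O U (pr O I K U x y) ∈ Submodule.span (O.obj.obj (op U)) (Set.range fun r => rs _ g (trel w v r)) := by
  induction x using Finsupp.induction_linear with
  | zero => rw [map_zero, LinearMap.zero_apply, map_zero]; exact zero_mem _
  | add x x' hx hx' => rw [map_add, LinearMap.add_apply, map_add]; exact add_mem hx hx'
  | single i a =>
    rw [pr_single_left, LinearMap.map_smul, ← freeMap_lb]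
    refine Submodule.smul_mem _ _ (mem_span_map ((colR O K i).val.app (op U)).hom (fun z hz => ?_) hy)
    obtain ⟨r, rfl⟩ := hz
    exact Submodule.subset_span ⟨Sum.inr (i, r), Groth.L15.ExtSupp.res_natural (colR O K i) g (v r)⟩

theorem trel_lcs (hw : IsRel A W s w) (hv : IsRel B W t v) (r : R × K ⊕ I × S) {U : C} (h : U ⟶ W)
    (c : I × K →₀ O.obj.obj (op U)) (hc : rs _ h (trel w v r) = lb O U c) :
    lcs (ten A B) h (tsec s t) c = 0 := by
  classical
  rcases r with ⟨r, j⟩ | ⟨i, r⟩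
  · obtain ⟨T, hT, hd⟩ := local_span_free (rs _ h (w r))
    refine Groth.L15.ExtSupp.sect_ext (ten A B) T hT _ _ fun U' k hk => ?_
    have hd' := hd k hk
    rw [← Finsupp.range_linearCombination] at hd'
    obtain ⟨d, hd'⟩ := hd'
    rw [rs_rs] at hd'
    have e : rR O k c = pr O I K U' d (Finsupp.single j 1) := by
      rw [pr_single_right, one_smul]
      refine sub_eq_zero.1 (coeff_unique _ ?_)
      rw [map_sub, ← rs_lb, ← hc, ← freeMap_lb, rs_rs, sub_eq_zero]
      exact (Groth.L15.ExtSupp.res_natural (colL O I j) (k ≫ h) (w r)).trans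
        (congrArg ((colL O I j).val.app (op U')) hd'.symm)
    refine (rs_lcs (ten A B) h k (tsec s t) c).trans (Eq.trans ?_ (map_zero _).symm)
    rw [e, lcs_pr, hw.1 r (k ≫ h) d hd'.symm, tmulS_eq, TensorProduct.zero_tmul, map_zero]
  · obtain ⟨T, hT, hd⟩ := local_span_free (rs _ h (v r))
    refine Groth.L15.ExtSupp.sect_ext (ten A B) T hT _ _ fun U' k hk => ?_
    have hd' := hd k hk
    rw [← Finsupp.range_linearCombination] at hd'
    obtain ⟨d, hd'⟩ := hd'
    rw [rs_rs] at hd'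
    have e : rR O k c = pr O I K U' (Finsupp.single i 1) d := by
      rw [pr_single_left, one_smul]
      refine sub_eq_zero.1 (coeff_unique _ ?_)
      rw [map_sub, ← rs_lb, ← hc, ← freeMap_lb, rs_rs, sub_eq_zero]
      exact (Groth.L15.ExtSupp.res_natural (colR O K i) (k ≫ h) (v r)).trans
        (congrArg ((colR O K i).val.app (op U')) hd'.symm)
    refine (rs_lcs (ten A B) h k (tsec s t) c).trans (Eq.trans ?_ (map_zero _).symm)
    rw [e, lcs_pr, hv.1 r (k ≫ h) d hd'.symm, tmulS_eq, TensorProduct.tmul_zero, map_zero]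

section Lift

variable {X : ModSite.Mod O} (p : I → ModSite.sect X W) {U V : C} (g : U ⟶ W) (k : V ⟶ U)

open Classical in
/-- A vector for the restriction of a section, if there is one. -/
def vecOf (m : ModSite.sect X U) : I →₀ O.obj.obj (op V) :=
  if h : ∃ a, lcs X (k ≫ g) p a = rs X k m then h.choose else 0

theorem lcs_vecOf {m : ModSite.sect X U} (h : ∃ a, lcs X (k ≫ g) p a = rs X k m) :
    lcs X (k ≫ g) p (vecOf p g k m) = rs X k m := by
  rw [vecOf, dif_pos h]
  exact h.choose_spec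

theorem exists_vec_self (i : I) : ∃ a, lcs X (k ≫ g) p a = rs X k (rs X g (p i)) :=
  ⟨Finsupp.single i 1, by rw [Finsupp.linearCombination_single, one_smul, rs_rs]⟩

theorem lcs_vecOf_comp (ρ : ModSite.sect X U →₀ O.obj.obj (op U))
    (h : ∀ m ∈ ρ.support, ∃ a, lcs X (k ≫ g) p a = rs X k m) :
    lcs X (k ≫ g) p (Finsupp.linearCombination (O.obj.obj (op V)) (vecOf p g k) (rR O k ρ)) =
      rs X k (Finsupp.linearCombination (O.obj.obj (op U)) id ρ) := by
  classical
  conv_lhs => rw [← Finsupp.sum_single ρ]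
  rw [Finsupp.sum, map_sum, map_sum, map_sum,
    show Finsupp.linearCombination (O.obj.obj (op U)) id ρ = ∑ m ∈ ρ.support, ρ m • m from
      Finsupp.linearCombination_apply _ _, map_sum]
  refine Finset.sum_congr rfl fun m hm => ?_
  rw [rR_single, Finsupp.linearCombination_single, LinearMap.map_smul, lcs_vecOf p g k (h m hm), rs_smul]

end Lift

variable {U₁ U₂ U₃ : C} (αM : ModSite.sect A U₁ → (I →₀ O.obj.obj (op U₂)))
  (αN : ModSite.sect B U₁ → (K →₀ O.obj.obj (op U₂))) (k : U₂ ⟶ U₁) (l : U₃ ⟶ U₂)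

/-- The linear extension of a choice of vectors, restricted. -/
def extVec {M I' : Type u} (α : M → (I' →₀ O.obj.obj (op U₂))) :
    (M →₀ O.obj.obj (op U₁)) →ₛₗ[rr O k] (I' →₀ O.obj.obj (op U₂)) :=
  (Finsupp.linearCombination (O.obj.obj (op U₂)) α).comp (rR O k)

theorem extVec_apply {M I' : Type u} (α : M → (I' →₀ O.obj.obj (op U₂))) (x : M →₀ O.obj.obj (op U₁)) :
    extVec k α x = Finsupp.linearCombination (O.obj.obj (op U₂)) α (rR O k x) := rfl

/-- The vectors of tensors of formal combinations of sections. -/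
def Phi : (ModSite.sect A U₁ →₀ O.obj.obj (op U₁)) ⊗[O.obj.obj (op U₁)]
      (ModSite.sect B U₁ →₀ O.obj.obj (op U₁)) →+
    ModSite.sect (SheafOfModules.free (I × K) : ModSite.Mod O) U₃ :=
  TensorProduct.liftAddHom
    (AddMonoidHom.mk' (fun x => AddMonoidHom.mk'
      (fun y => lb O U₃ (rR O l (pr O I K U₂ (extVec k αM x) (extVec k αN y)))) fun y y' => by
        simp only [map_add]) fun x x' => AddMonoidHom.ext fun y => by
        simp only [AddMonoidHom.mk'_apply, AddMonoidHom.add_apply, map_add, LinearMap.add_apply])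
    fun r x y => by
      simp only [AddMonoidHom.mk'_apply, LinearMap.map_smulₛₗ, RingHom.id_apply, LinearMap.smul_apply]

theorem Phi_tmul (x : ModSite.sect A U₁ →₀ O.obj.obj (op U₁)) (y : ModSite.sect B U₁ →₀ O.obj.obj (op U₁)) :
    Phi αM αN k l (x ⊗ₜ y) = lb O U₃ (rR O l (pr O I K U₂ (extVec k αM x) (extVec k αN y))) := rfl

/-- The kernel of a tensor product of surjections, by sums. -/
theorem exists_ker_decomp {R₀ M N M₀ N₀ : Type u} [CommRing R₀] [AddCommGroup M] [Module R₀ M]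
    [AddCommGroup N] [Module R₀ N] [AddCommGroup M₀] [Module R₀ M₀] [AddCommGroup N₀] [Module R₀ N₀]
    (πM : M →ₗ[R₀] M₀) (πN : N →ₗ[R₀] N₀) (hM : Function.Surjective πM) (hN : Function.Surjective πN)
    (ξ : M ⊗[R₀] N) (h : TensorProduct.map πM πN ξ = 0) :
    ∃ (n₁ n₂ : ℕ) (a₁ : Fin n₁ → M) (b₁ : Fin n₁ → N) (a₂ : Fin n₂ → M) (b₂ : Fin n₂ → N),
      (∀ r, πN (b₁ r) = 0) ∧ (∀ r, πM (a₂ r) = 0) ∧ ∑ r, a₁ r ⊗ₜ b₁ r + ∑ r, a₂ r ⊗ₜ b₂ r = ξ := by
  have hξ : ξ ∈ LinearMap.ker (TensorProduct.map πM πN) := h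
  rw [TensorProduct.map_ker (LinearMap.exact_subtype_ker_map πM) hM (LinearMap.exact_subtype_ker_map πN) hN,
    Submodule.mem_sup] at hξ
  obtain ⟨_, ⟨η₁, rfl⟩, _, ⟨η₂, rfl⟩, hξ⟩ := hξ
  obtain ⟨n₁, a₁, b₁, rfl⟩ := TensorProduct.exists_sum_tmul_eq η₁
  obtain ⟨n₂, a₂, b₂, rfl⟩ := TensorProduct.exists_sum_tmul_eq η₂
  simp only [map_sum, LinearMap.lTensor_tmul, LinearMap.rTensor_tmul] at hξ
  exact ⟨n₁, n₂, a₁, fun r => (b₁ r).1, fun r => (a₂ r).1, b₂, fun r => (b₁ r).2, fun r => (a₂ r).2, hξ⟩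

variable (s t) in
theorem rR_sub_Phi_mem {U₁ U₂ U₃ : C} (g₁ : U₁ ⟶ W) (k : U₂ ⟶ U₁) (l : U₃ ⟶ U₂)
    (αM : ModSite.sect A U₁ → (I →₀ O.obj.obj (op U₂))) (αN : ModSite.sect B U₁ → (K →₀ O.obj.obj (op U₂)))
    (c₁ : I × K →₀ O.obj.obj (op U₁))
    (hM : ∀ p ∈ c₁.support, lb O U₃ (rR O l (αM (rs A g₁ (s p.1)) - Finsupp.single p.1 1)) ∈
      Submodule.span (O.obj.obj (op U₃)) (Set.range fun r => rs _ (l ≫ k ≫ g₁) (w r)))
    (hN : ∀ p ∈ c₁.support, lb O U₃ (rR O l (αN (rs B g₁ (t p.2)) - Finsupp.single p.2 1)) ∈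
      Submodule.span (O.obj.obj (op U₃)) (Set.range fun r => rs _ (l ≫ k ≫ g₁) (v r))) :
    lb O U₃ (rR O l (rR O k c₁)) - Phi (A := A) (B := B) αM αN k l
        (Finsupp.linearCombination (O.obj.obj (op U₁))
          (fun p => Finsupp.single (rs A g₁ (s p.1)) 1 ⊗ₜ Finsupp.single (rs B g₁ (t p.2)) 1) c₁) ∈
      Submodule.span (O.obj.obj (op U₃)) (Set.range fun r => rs _ (l ≫ k ≫ g₁) (trel w v r)) := by
  classical
  have hc₁ : rR O k c₁ = ∑ p ∈ c₁.support,
      rr O k (c₁ p) • pr O I K U₂ (Finsupp.single p.1 1) (Finsupp.single p.2 1) := by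
    conv_lhs => rw [← Finsupp.sum_single c₁]
    rw [Finsupp.sum, map_sum]
    refine Finset.sum_congr rfl fun p _ => ?_
    rw [rR_single, pr_single, mul_one, Finsupp.smul_single, smul_eq_mul, mul_one]
  rw [hc₁, map_sum, map_sum, Finsupp.linearCombination_apply, Finsupp.sum, map_sum, ← Finset.sum_sub_distrib]
  refine Submodule.sum_mem _ fun p hp => ?_
  rw [TensorProduct.smul_tmul', Phi_tmul, LinearMap.map_smulₛₗ, LinearMap.map_smulₛₗ (extVec k αM),
    LinearMap.map_smul₂ (pr O I K U₂), LinearMap.map_smulₛₗ (rR O l), LinearMap.map_smul, LinearMap.map_smul,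
    ← smul_sub]
  refine Submodule.smul_mem _ _ ?_
  have e3 : pr O I K U₂ (Finsupp.single p.1 1) (Finsupp.single p.2 1) -
      pr O I K U₂ (αM (rs A g₁ (s p.1))) (αN (rs B g₁ (t p.2))) =
      -(pr O I K U₂ (αM (rs A g₁ (s p.1)) - Finsupp.single p.1 1) (αN (rs B g₁ (t p.2))) +
        pr O I K U₂ (Finsupp.single p.1 1) (αN (rs B g₁ (t p.2)) - Finsupp.single p.2 1)) := by
    simp only [map_sub, LinearMap.sub_apply]
    abel
  rw [extVec_apply, extVec_apply, rR_single, rR_single, map_one, Finsupp.linearCombination_single,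
    Finsupp.linearCombination_single, one_smul, one_smul, ← map_sub, ← map_sub, e3, map_neg, map_neg, map_add,
    map_add, rR_pr, rR_pr]
  exact neg_mem (add_mem (pr_mem_left w v _ _ (hM p hp)) (pr_mem_right w v _ _ (hN p hp)))

theorem trel_rel (hw : IsRel A W s w) (hv : IsRel B W t v) ⦃U : C⦄ (g : U ⟶ W)
    (c : I × K →₀ O.obj.obj (op U)) (hc : lcs (ten A B) g (tsec s t) c = 0) (hs : IsGen A W s) (ht : IsGen B W t) :
    ∃ S ∈ J U, ∀ ⦃V : C⦄ (h : V ⟶ U), S h →
      lb O V (rR O h c) ∈ Submodule.span (O.obj.obj (op V)) (Set.range fun r => rs _ (h ≫ g) (trel w v r)) := by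
  classical
  obtain ⟨S₀, hS₀, hd₀⟩ := exists_unitA_zeros A B (fun _ : Fin 1 => zT s t g c)
    (fun _ => (unitA_zT s t g c).trans hc)
  refine exists_sieve_bind _ hS₀ fun U₁ h₁ hh₁ => ?_
  have hz : zT s t (h₁ ≫ g) (rR O h₁ c) = 0 := (resT_zT s t g h₁ c).symm.trans (hd₀ h₁ hh₁ 0)
  let g₁ := h₁ ≫ g
  let c₁ := rR O h₁ c
  let B₁ := O.obj.obj (op U₁)
  let πM : (ModSite.sect A U₁ →₀ B₁) →ₗ[B₁] ModSite.sect A U₁ := Finsupp.linearCombination B₁ id
  let πN : (ModSite.sect B U₁ →₀ B₁) →ₗ[B₁] ModSite.sect B U₁ := Finsupp.linearCombination B₁ id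
  have hπM : Function.Surjective πM := Finsupp.linearCombination_id_surjective B₁ _
  have hπN : Function.Surjective πN := Finsupp.linearCombination_id_surjective B₁ _
  let e : I × K → (ModSite.sect A U₁ →₀ B₁) ⊗[B₁] (ModSite.sect B U₁ →₀ B₁) := fun p =>
    Finsupp.single (rs A g₁ (s p.1)) 1 ⊗ₜ Finsupp.single (rs B g₁ (t p.2)) 1
  let ξ := Finsupp.linearCombination B₁ e c₁
  have hξ : ξ ∈ LinearMap.ker (TensorProduct.map πM πN) := by
    refine (Finsupp.apply_linearCombination B₁ (TensorProduct.map πM πN) e c₁).trans (Eq.trans ?_ hz)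
    refine congrArg (fun q => Finsupp.linearCombination B₁ q c₁) (funext fun p => ?_)
    show TensorProduct.map πM πN (_ ⊗ₜ _) = _
    rw [TensorProduct.map_tmul]
    show Finsupp.linearCombination B₁ id (Finsupp.single _ 1) ⊗ₜ[B₁]
      Finsupp.linearCombination B₁ id (Finsupp.single _ 1) = _
    simp only [Finsupp.linearCombination_single, one_smul]
    rfl
  obtain ⟨n₁, n₂, a₁, b₁, a₂, b₂, hb₁, ha₂, hξ⟩ := exists_ker_decomp πM πN hπM hπN ξ hξ
  let TM : Finset (ModSite.sect A U₁) := Finset.univ.biUnion fun r => (a₂ r).support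
  let TN : Finset (ModSite.sect B U₁) := Finset.univ.biUnion fun r => (b₁ r).support
  choose SM hSM hdM using fun m : TM => hs g₁ m.1
  choose SN hSN hdN using fun m : TN => ht g₁ m.1
  obtain ⟨TA, hTA, hleA⟩ := exists_inter' SM hSM
  obtain ⟨TB, hTB, hleB⟩ := exists_inter' SN hSN
  refine exists_sieve_bind (fun V h => lb O V (rR O (h ≫ h₁) c) ∈ Submodule.span (O.obj.obj (op V))
    (Set.range fun r => rs _ ((h ≫ h₁) ≫ g) (trel w v r))) (J.intersection_covering hTA hTB) fun U₂ k hk => ?_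
  let αM := vecOf (X := A) s g₁ k
  let αN := vecOf (X := B) t g₁ k
  let ΦM := extVec (U₁ := U₁) k αM
  let ΦN := extVec (U₁ := U₁) k αN
  have hA : ∀ r, lcs A (k ≫ g₁) s (ΦM (a₂ r)) = 0 := fun r => by
    refine (lcs_vecOf_comp (X := A) s g₁ k (a₂ r) fun m hm => ?_).trans ?_
    · have hm' : m ∈ TM := Finset.mem_biUnion.2 ⟨r, Finset.mem_univ r, hm⟩
      exact (mem_span_iff_lcs (k ≫ g₁) s _).1 (hdM ⟨m, hm'⟩ k (hleA ⟨m, hm'⟩ _ hk.1))
    · rw [show Finsupp.linearCombination B₁ id (a₂ r) = 0 from ha₂ r, map_zero]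
  have hB : ∀ r, lcs B (k ≫ g₁) t (ΦN (b₁ r)) = 0 := fun r => by
    refine (lcs_vecOf_comp (X := B) t g₁ k (b₁ r) fun m hm => ?_).trans ?_
    · have hm' : m ∈ TN := Finset.mem_biUnion.2 ⟨r, Finset.mem_univ r, hm⟩
      exact (mem_span_iff_lcs (k ≫ g₁) t _).1 (hdN ⟨m, hm'⟩ k (hleB ⟨m, hm'⟩ _ hk.2))
    · rw [show Finsupp.linearCombination B₁ id (b₁ r) = 0 from hb₁ r, map_zero]
  let δM : I → (I →₀ O.obj.obj (op U₂)) := fun i => αM (rs A g₁ (s i)) - Finsupp.single i 1
  let δN : K → (K →₀ O.obj.obj (op U₂)) := fun j => αN (rs B g₁ (t j)) - Finsupp.single j 1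
  have hδM : ∀ i, lcs A (k ≫ g₁) s (δM i) = 0 := fun i => by
    rw [map_sub, lcs_vecOf s g₁ k (exists_vec_self s g₁ k i), Finsupp.linearCombination_single, one_smul,
      rs_rs, sub_self]
  have hδN : ∀ j, lcs B (k ≫ g₁) t (δN j) = 0 := fun j => by
    rw [map_sub, lcs_vecOf t g₁ k (exists_vec_self t g₁ k j), Finsupp.linearCombination_single, one_smul,
      rs_rs, sub_self]
  choose S₁ hS₁ hd₁ using fun r => hw.2 (k ≫ g₁) _ (hA r)
  choose S₂ hS₂ hd₂ using fun r => hv.2 (k ≫ g₁) _ (hB r)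
  choose S₃ hS₃ hd₃ using fun p : c₁.support => hw.2 (k ≫ g₁) _ (hδM p.1.1)
  choose S₄ hS₄ hd₄ using fun p : c₁.support => hv.2 (k ≫ g₁) _ (hδN p.1.2)
  obtain ⟨T₁, hT₁, hl₁⟩ := exists_inter' S₁ hS₁
  obtain ⟨T₂, hT₂, hl₂⟩ := exists_inter' S₂ hS₂
  obtain ⟨T₃, hT₃, hl₃⟩ := exists_inter' S₃ hS₃
  obtain ⟨T₄, hT₄, hl₄⟩ := exists_inter' S₄ hS₄
  refine ⟨(T₁ ⊓ T₂) ⊓ (T₃ ⊓ T₄), J.intersection_covering (J.intersection_covering hT₁ hT₂)
    (J.intersection_covering hT₃ hT₄), fun U₃ l hl => ?_⟩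
  rw [show ((l ≫ k) ≫ h₁) ≫ g = l ≫ k ≫ g₁ by simp only [g₁, Category.assoc],
    show rR O ((l ≫ k) ≫ h₁) c = rR O l (rR O k c₁) from ((rR_rR k l _).trans (rR_rR h₁ (l ≫ k) c)).symm]
  have e2 := rR_sub_Phi_mem (A := A) (B := B) s t w v g₁ k l αM αN c₁
    (fun p hp => hd₃ ⟨p, hp⟩ l (hl₃ ⟨p, hp⟩ _ hl.2.1)) (fun p hp => hd₄ ⟨p, hp⟩ l (hl₄ ⟨p, hp⟩ _ hl.2.2))
  have e1 : Phi (A := A) (B := B) αM αN k l ξ ∈
      Submodule.span (O.obj.obj (op U₃)) (Set.range fun r => rs _ (l ≫ k ≫ g₁) (trel w v r)) := by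
    rw [← hξ, map_add, map_sum, map_sum]
    refine add_mem (Submodule.sum_mem _ fun r _ => ?_) (Submodule.sum_mem _ fun r _ => ?_)
    · rw [Phi_tmul, rR_pr]
      exact pr_mem_right w v _ _ (hd₂ r l (hl₂ r _ hl.1.2))
    · rw [Phi_tmul, rR_pr]
      exact pr_mem_left w v _ _ (hd₁ r l (hl₁ r _ hl.1.1))
  have e4 := add_mem e2 e1
  rwa [sub_add_cancel] at e4

theorem isRel_tensor (hs : IsGen A W s) (ht : IsGen B W t) (hw : IsRel A W s w) (hv : IsRel B W t v) :
    IsRel (ten A B) W (tsec s t) (trel w v) :=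
  ⟨fun r _ h c hc => trel_lcs w v hw hv r h c hc, fun _ g c hc => trel_rel w v hw hv g c hc hs ht⟩

/-- Generators of a tensor product. -/
def SGen.tensor (P : SGen A W) (Q : SGen B W) : SGen (ten A B) W where
  I := P.I × Q.I
  s := tsec P.s Q.s
  gen := isGen_tensor P.gen Q.gen

/-- Generators and relations of a tensor product. -/
def SPres.tensor (P : SPres A W) (Q : SPres B W) : SPres (ten A B) W where
  toSGen := P.toSGen.tensor Q.toSGen
  R := P.R × Q.I ⊕ P.I × Q.R
  w := trel P.w Q.w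
  isRel := isRel_tensor P.w Q.w P.gen Q.gen P.isRel Q.isRel

variable (A B)

theorem locally_tensor {P₁ P₂ P₃ : C → Prop} (h₁ : Locally J P₁) (h₂ : Locally J P₂)
    (res₁ : ∀ {W V : C} (_ : V ⟶ W), P₁ W → P₁ V) (res₂ : ∀ {W V : C} (_ : V ⟶ W), P₂ W → P₂ V)
    (h : ∀ V, P₁ V → P₂ V → P₃ V) : Locally J P₃ :=
  locally_bind (locally_and h₁ h₂) fun W hW =>
    ⟨⊤, J.top_mem W, fun V v _ => h V (res₁ v hW.1) (res₂ v hW.2)⟩

/-- Tensor products preserve local generation, finite type, quasi-coherence, finite presentation and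
local freeness. -/
theorem tensor_permanence :
    (Nonempty (SheafOfModules.LocalGeneratorsData.{u} (R := ModSite.ringSh O) A) →
        Nonempty (SheafOfModules.LocalGeneratorsData.{u} (R := ModSite.ringSh O) B) →
          Nonempty (SheafOfModules.LocalGeneratorsData.{u} (R := ModSite.ringSh O) (ten A B))) ∧
      (SheafOfModules.IsFiniteType (R := ModSite.ringSh O) A →
        SheafOfModules.IsFiniteType (R := ModSite.ringSh O) B →
        SheafOfModules.IsFiniteType (R := ModSite.ringSh O) (ten A B)) ∧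
      (SheafOfModules.IsQuasicoherent (R := ModSite.ringSh O) A →
        SheafOfModules.IsQuasicoherent (R := ModSite.ringSh O) B →
          SheafOfModules.IsQuasicoherent (R := ModSite.ringSh O) (ten A B)) ∧
      (SheafOfModules.IsFinitePresentation (R := ModSite.ringSh O) A →
        SheafOfModules.IsFinitePresentation (R := ModSite.ringSh O) B →
          SheafOfModules.IsFinitePresentation (R := ModSite.ringSh O) (ten A B)) ∧
      (SheafOfModules.IsLocallyFree (R := ModSite.ringSh O) A →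
        SheafOfModules.IsLocallyFree (R := ModSite.ringSh O) B →
        SheafOfModules.IsLocallyFree (R := ModSite.ringSh O) (ten A B)) := by
  refine ⟨fun h h' => ?_, fun h h' => ?_, fun h h' => ?_, fun h h' => ?_, fun h h' => ?_⟩
  · rw [nonempty_localGeneratorsData_iff] at h h' ⊢
    exact locally_tensor h h' (fun v ⟨P⟩ => ⟨P.res v⟩) (fun v ⟨P⟩ => ⟨P.res v⟩)
      fun V ⟨P⟩ ⟨Q⟩ => ⟨P.tensor Q⟩
  · rw [isFiniteType_iff] at h h' ⊢
    exact locally_tensor h h' (fun v ⟨P, hP⟩ => ⟨P.res v, hP⟩) (fun v ⟨P, hP⟩ => ⟨P.res v, hP⟩)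
      fun V ⟨P, _⟩ ⟨Q, _⟩ => ⟨P.tensor Q, inferInstanceAs (Finite (P.I × Q.I))⟩
  · rw [isQuasicoherent_iff] at h h' ⊢
    exact locally_tensor h h' (fun v ⟨P⟩ => ⟨P.res v⟩) (fun v ⟨P⟩ => ⟨P.res v⟩)
      fun V ⟨P⟩ ⟨Q⟩ => ⟨P.tensor Q⟩
  · rw [isFinitePresentation_iff] at h h' ⊢
    exact locally_tensor h h' (fun v ⟨P, hP⟩ => ⟨P.res v, hP⟩) (fun v ⟨P, hP⟩ => ⟨P.res v, hP⟩)
      fun V ⟨P, _, _⟩ ⟨Q, _, _⟩ => ⟨P.tensor Q, inferInstanceAs (Finite (P.I × Q.I)),
        inferInstanceAs (Finite (P.R × Q.I ⊕ P.I × Q.R))⟩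
  · rw [isLocallyFree_iff] at h h' ⊢
    exact locally_tensor h h' (fun v ⟨P, hP⟩ => ⟨P.res v, hP⟩) (fun v ⟨P, hP⟩ => ⟨P.res v, hP⟩)
      fun V ⟨P, _⟩ ⟨Q, _⟩ => ⟨P.tensor Q, inferInstanceAs (IsEmpty (P.R × Q.I ⊕ P.I × Q.R))⟩

end Groth.L10.SecPres
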